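import Mathlib.RingTheory.Etale.Kaehler
import Mathlib.RingTheory.Kaehler.Polynomial
import Mathlib.RingTheory.RingHom.Etale
import Mathlib.RingTheory.Flat.TorsionFree
import Mathlib.Algebra.MvPolynomial.Basic

/-!
# Kähler differentials of an algebra étale over a polynomial ring
-/

set_option autoImplicit false

universe u

open TensorProduct

namespace K922.EtBasis

variable {A B : Type u} [CommRing A] [CommRing B] {σ : Type*} (φ : A →+* B) (v : σ → B)

/-- If `B` is étale over `A[T_j]` through `T_j ↦ v_j`, the `dv_j` are a basis of `Ω[B⁄A]`. -/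
theorem exists_basis (h : (MvPolynomial.eval₂Hom φ v).Etale) :
    letI := φ.toAlgebra
    ∃ b : Module.Basis σ B (Ω[B⁄A]), ∀ j, b j = KaehlerDifferential.D A B (v j) := by
  let := φ.toAlgebra
  let := (MvPolynomial.eval₂Hom φ v).toAlgebra
  have : IsScalarTower A (MvPolynomial σ A) B := IsScalarTower.of_algebraMap_eq fun a => by
    change φ a = MvPolynomial.eval₂Hom φ v (MvPolynomial.C a)
    simp
  have : Algebra.Etale (MvPolynomial σ A) B := h
  let e := KaehlerDifferential.tensorKaehlerEquivOfFormallyEtale A (MvPolynomial σ A) B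
  refine ⟨((KaehlerDifferential.mvPolynomialBasis A σ).baseChange B).map e, ?_⟩
  intro j
  rw [Module.Basis.map_apply, Module.Basis.baseChange_apply, KaehlerDifferential.mvPolynomialBasis_apply]
  apply e.symm.injective
  rw [LinearEquiv.symm_apply_apply]
  have : v j = algebraMap (MvPolynomial σ A) B (MvPolynomial.X j) := by
    change v j = MvPolynomial.eval₂Hom φ v (MvPolynomial.X j)
    simp
  rw [this]
  exact (KaehlerDifferential.tensorKaehlerEquivOfFormallyEtale_symm_D_algebraMap A (MvPolynomial σ A) B _).symm

/-- The coordinates are nonzerodivisors. -/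
theorem mem_nonZeroDivisors (h : (MvPolynomial.eval₂Hom φ v).Etale) (j : σ) :
    v j ∈ nonZeroDivisors B := by
  let := φ.toAlgebra
  let := (MvPolynomial.eval₂Hom φ v).toAlgebra
  have : Algebra.Etale (MvPolynomial σ A) B := h
  have h1 : IsSMulRegular B (MvPolynomial.X j : MvPolynomial σ A) :=
    Module.Flat.isSMulRegular_of_isRegular MvPolynomial.isRegular_X
  have h2 : ∀ b : B, (MvPolynomial.X j : MvPolynomial σ A) • b = v j * b := by
    intro b
    change MvPolynomial.eval₂Hom φ v (MvPolynomial.X j) * b = v j * b
    simp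
  rw [mem_nonZeroDivisors_iff_right]
  intro b hb
  apply h1
  change (MvPolynomial.X j : MvPolynomial σ A) • b = (MvPolynomial.X j : MvPolynomial σ A) • (0 : B)
  rw [h2, smul_zero, mul_comm, hb]

end K922.EtBasis
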