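import Groth.Agent.LogNCD.K922.Coord

/-!
# Charts of a relative normal crossing divisor
-/

set_option autoImplicit false
set_option linter.dupNamespace false

universe u

open CategoryTheory CategoryTheory.Limits AlgebraicGeometry Opposite TopologicalSpace
open scoped TensorProduct
open Groth.Agent.Sga67.Sec Groth.Agent.Sga67.LocBasis

namespace K922.Chart

open K922.Tens K922.Quot K922.DSec K922.Coord

variable {X S : Scheme.{u}} {f : X ⟶ S}

theorem ideal_eq_top_of_disjoint (I : X.IdealSheafData) (V : X.affineOpens)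
    (h : ∀ x ∈ V.1, x ∉ I.support) : I.ideal V = ⊤ := by
  rw [← PrimeSpectrum.zeroLocus_empty_iff_eq_top]
  have h1 := I.coe_support_inter V
  have h2 := V.2.fromSpec_image_zeroLocus (I.ideal V)
  rw [← h1] at h2
  have h3 : ((I.support : Set X) ∩ (V.1 : Set X)) = ∅ := by
    ext x
    simp only [Set.mem_inter_iff, Set.mem_empty_iff_false, iff_false, not_and]
    exact fun hx hV => h x hV hx
  rw [h3] at h2
  exact Set.image_eq_empty.mp h2

theorem notMem_support_of_ideal_eq_top (I : X.IdealSheafData) (V : X.affineOpens)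
    (h : I.ideal V = ⊤) (x : X) (hx : x ∈ V.1) : x ∉ I.support := by
  intro hxI
  have h2 := (Scheme.IdealSheafData.mem_support_iff_of_mem (I := I) (x := x) (U := V) hx).mp hxI
  rw [h] at h2
  have h3 : x ∈ X.zeroLocus (U := V.1) ((⊤ : Ideal Γ(X, V.1)) : Set Γ(X, V.1)) := h2
  rw [Scheme.mem_zeroLocus_iff] at h3
  exact h3 1 trivial (by rw [Scheme.basicOpen_of_isUnit _ isUnit_one]; exact hx)

/-- A point is in the support iff every local equation vanishes there. -/
theorem mem_support_iff_span (I : X.IdealSheafData) (V : X.affineOpens) (g : Γ(X, V.1))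
    (h : I.ideal V = Ideal.span {g}) (x : X) (hx : x ∈ V.1) : x ∈ I.support ↔ x ∉ X.basicOpen g := by
  rw [Scheme.IdealSheafData.mem_support_iff_of_mem (I := I) (x := x) (U := V) hx, h, Scheme.zeroLocus_span]
  rw [Scheme.mem_zeroLocus_iff]
  simp

variable {r : ℕ}

/-- A chart of the family `D` on the open `U`: étale coordinates `v`, equations `g i` of the `D i` which are either `1`
or a coordinate, distinct `i` having distinct coordinates. -/
structure Chart (f : X ⟶ S) (D : Fin r → X.IdealSheafData) (U : X.Opens) (n : ℕ) where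
  v : Fin n → Γ(X, U)
  e : Fin r → Option (Fin n)
  g : Fin r → Γ(X, U)
  coord : IsCoord f U v
  inj : ∀ i j k, e i = some k → e j = some k → i = j
  g_none : ∀ i, e i = none → g i = 1
  g_some : ∀ i k, e i = some k → g i = v k
  ideal : ∀ (i : Fin r) (V : X.affineOpens) (h : V.1 ≤ U), (D i).ideal V = Ideal.span {resO X h (g i)}

variable {D : Fin r → X.IdealSheafData} {U : X.Opens} {n : ℕ}

/-- Restriction of a chart. -/
noncomputable def Chart.restrict (c : Chart f D U n) {W : X.Opens} (h : W ≤ U) : Chart f D W n where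
  v k := resO X h (c.v k)
  e := c.e
  g i := resO X h (c.g i)
  coord := c.coord.restrict h
  inj := c.inj
  g_none i hi := by rw [c.g_none i hi, map_one]
  g_some i k hi := by rw [c.g_some i k hi]
  ideal i V h' := by rw [resO_resO]; exact c.ideal i V (h'.trans h)

theorem Chart.isReg_g (c : Chart f D U n) (i : Fin r) : IsReg U (c.g i) := by
  rcases h : c.e i with _ | k
  · rw [c.g_none i h]
    exact isReg_one U
  · rw [c.g_some i k h]
    exact c.coord.isReg k

theorem Chart.isReg_prod (c : Chart f D U n) : IsReg U (∏ i, c.g i) :=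
  IsReg.prod _ fun i _ => c.isReg_g i

theorem isCoord_reindex {σ τ : Type u} (ε : τ ≃ σ) {v : σ → Γ(X, U)} (hv : IsCoord f U v) :
    IsCoord f U (fun j => v (ε j)) := by
  intro x O hO hx
  obtain ⟨W, h, V, e, hWO, hxW, het⟩ := hv x O hO hx
  refine ⟨W, h, V, e, hWO, hxW, ?_⟩
  have h1 : MvPolynomial.eval₂Hom (f.appLE V.1 W.1 e).hom (fun j => resO X h (v (ε j))) =
      (MvPolynomial.eval₂Hom (f.appLE V.1 W.1 e).hom (fun j => resO X h (v j))).comp
        (MvPolynomial.renameEquiv Γ(S, V.1) ε).toRingEquiv.toRingHom := by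
    apply MvPolynomial.ringHom_ext
    · intro r
      simp
    · intro j
      simp
  rw [h1]
  exact RingHom.Etale.respectsIso.2 _ _ het

/-- Existence of charts. -/
theorem exists_chart [Smooth f] (hD : LogNCD.IsNCD D f) {O : X.Opens} {x : X} (hx : x ∈ O) :
    ∃ (U : X.affineOpens) (n : ℕ) (_ : Chart f D U.1 n), x ∈ U.1 ∧ U.1 ≤ O := by
  classical
  by_cases hT : Nonempty (LogNCD.Through D x)
  · obtain ⟨W, hxW, n, v, e, he, het, h1, h2⟩ := hD x hT
    obtain ⟨U, hU, hxU⟩ := exists_affine_nhd (X := X) (U := O ⊓ W) (x := x) ⟨hx, hxW⟩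
    have hUW : U.1 ≤ W := hU.trans inf_le_right
    have hc := isCoord_of_etale f v het hUW
    have hc' : IsCoord f U.1 (fun k : Fin n => LogNCD.sectOn W hUW (v (ULift.up k))) := by
      intro y O' hO' hy
      obtain ⟨W', h, V, e, hWO, hxW, het⟩ := hc y O' hO' hy
      refine ⟨W', h, V, e, hWO, hxW, ?_⟩
      have h1 : MvPolynomial.eval₂Hom (f.appLE V.1 W'.1 e).hom
          (fun k : Fin n => resO X h (LogNCD.sectOn W hUW (v (ULift.up k)))) =
          (MvPolynomial.eval₂Hom (f.appLE V.1 W'.1 e).hom
            (fun j => resO X h (LogNCD.sectOn W hUW (v j)))).comp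
            (MvPolynomial.renameEquiv Γ(S, V.1) Equiv.ulift.{u}.symm).toRingEquiv.toRingHom := by
        apply MvPolynomial.ringHom_ext
        · intro r
          simp
        · intro j
          simp
      rw [h1]
      exact RingHom.Etale.respectsIso.2 _ _ het
    refine ⟨U, n, ⟨fun k => LogNCD.sectOn W hUW (v (ULift.up k)),
      fun i => if h : x ∈ (D i).support then some (e ⟨i, h⟩) else none,
      fun i => if h : x ∈ (D i).support then LogNCD.sectOn W hUW (v (ULift.up (e ⟨i, h⟩))) else 1,
      hc', ?_, ?_, ?_, ?_⟩, hxU, hU.trans inf_le_left⟩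
    · intro i j k hi hj
      by_cases hi' : x ∈ (D i).support <;> by_cases hj' : x ∈ (D j).support <;>
        simp only [hi', hj', dite_true, dite_false, Option.some.injEq, reduceCtorEq] at hi hj
      have := he (hi.trans hj.symm)
      exact congrArg Subtype.val this
    · intro i hi
      by_cases hi' : x ∈ (D i).support <;>
        simp only [hi', dite_true, dite_false, reduceCtorEq] at hi ⊢
    · intro i k hi
      by_cases hi' : x ∈ (D i).support <;>
        simp only [hi', dite_true, dite_false, Option.some.injEq, reduceCtorEq] at hi ⊢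
      rw [hi]
    · intro i V h
      by_cases hi' : x ∈ (D i).support
      · simp only [hi', dite_true]
        rw [h1 ⟨i, hi'⟩ V (h.trans hUW)]
        congr 2
        exact (resO_resO hUW h (W.topIso.hom _)).symm
      · simp only [hi', dite_false, map_one]
        rw [h2 i hi' V (h.trans hUW), Ideal.span_singleton_one]
  · have hx' : ∀ i, x ∉ (D i).support := fun i hi => hT ⟨⟨i, hi⟩⟩
    let Z : Set X := ⋃ i, ((D i).support : Set X)
    have hZ : IsClosed Z := isClosed_iUnion_of_finite fun i => (D i).support.isClosed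
    let O' : X.Opens := O ⊓ ⟨Zᶜ, hZ.isOpen_compl⟩
    have hxO' : x ∈ O' := ⟨hx, fun h => by
      obtain ⟨i, hi⟩ := Set.mem_iUnion.mp h
      exact hx' i hi⟩
    obtain ⟨U, n, v, hxU, hU, hv⟩ := exists_isCoord f hxO'
    refine ⟨U, n, ⟨v, fun _ => none, fun _ => 1, hv, ?_, ?_, ?_, ?_⟩, hxU, hU.trans inf_le_left⟩
    · intro i j k hi
      simp at hi
    · intro i _
      rfl
    · intro i k hi
      simp at hi
    · intro i V h
      rw [map_one, Ideal.span_singleton_one]
      apply ideal_eq_top_of_disjoint
      intro y hy hyi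
      exact (hU (h hy)).2 (Set.mem_iUnion.mpr ⟨i, hyi⟩)

end K922.Chart
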