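import Groth.Agent.LogNCD.K922.LogBasis
import Groth.Agent.OmegaSh.K583.UnivAffine

/-!
# Universal derivations satisfy `AffUniv`
-/

set_option autoImplicit false

universe u

open CategoryTheory CategoryTheory.Limits AlgebraicGeometry Opposite TopologicalSpace
open scoped TensorProduct
open Groth.Agent.Sga67.Sec Groth.Agent.Sga67.LocBasis

namespace K922.Univ

open K922.Tens K922.Quot K922.DSec K922.Coord

variable {X S : Scheme.{u}} {f : X ⟶ S} {Ω' : X.Modules}

theorem affUniv {d : OmegaSh.Der f Ω'} (hd : OmegaSh.IsUniversal d) : AffUniv d := by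
  intro U V e
  let _ := (f.appLE V.1 U.1 e).hom.toAlgebra
  exact K583.UnivAffine.exists_kaehler_equiv hd U.2 V.2 e rfl

end K922.Univ
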