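import Groth.Agent.LogNCD.K922.DSec

/-!
# The residue of a logarithmic connection is linear and factors through the restriction
-/

set_option autoImplicit false

universe u

open CategoryTheory CategoryTheory.Limits AlgebraicGeometry Opposite TopologicalSpace
open scoped TensorProduct
open Groth.Agent.Sga67.Sec Groth.Agent.Sga67.LocBasis Groth.Agent.Sga67.ExtSheaf
  Groth.Agent.Sga67.TensorOps

namespace K922.Residue

open K922.Tens K922.Quot K922.DSec

variable {X S : Scheme.{u}} {f : X ⟶ S} {Ω' : X.Modules} {d : OmegaSh.Der f Ω'} {r : ℕ}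
  {D : Fin r → X.IdealSheafData}

theorem exists_isResidue (Λ : LogNCD.LogMod d D) (E : X.Modules)
    (nabla : Coh.toAb E ⟶ Coh.toAb (CohB1.tensorMod E Λ.L)) (hc : ConnSh.IsConn (LogNCD.der Λ) E nabla)
    (i : Fin r) :
    ∃ ρ : E ⟶ CohB1.tensorMod E (ClSub.quotMod (D i)), LogNCD.IsResidue Λ E nabla i ρ := by
  refine exists_of_linear _ ?_
  intro U t e
  rw [secApp_comp, secApp_comp, secApp_map, secApp_map, hc U t e, map_add, map_smul]
  have h : appS (KoszTw.tensorMap (𝟙 E) (Λ.res i)) U (SecTwist.tmul E Λ.L U e ((LogNCD.der Λ).app U t)) = 0 := by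
    have h1 := tensorMap_tau (𝟙 E) (Λ.res i) U (e ⊗ₜ[Γ(X, U)] (appS Λ.ι U (dS d U t)))
    rw [TensorProduct.map_tmul, appS_res_ι, TensorProduct.tmul_zero, map_zero] at h1
    exact h1
  rw [h, add_zero]

/-- An `O_X`-linear map `E ⟶ E' ⊗ O_D` factors through `E ≅ E ⊗ O_X ⟶ E ⊗ O_D`. -/
theorem exists_factor {E : X.Modules} (hE : FlatMod.IsFinLocFree E) {E' : X.Modules}
    (I : X.IdealSheafData) (ρ : E ⟶ CohB1.tensorMod E' (ClSub.quotMod I)) :
    ∃ R : CohB1.tensorMod E (ClSub.quotMod I) ⟶ CohB1.tensorMod E' (ClSub.quotMod I),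
      (SecTwist.unitorR E).inv ≫ KoszTw.tensorMap (𝟙 E) (ClSub.toSubscheme I) ≫ R = ρ := by
  have hS := tensor_shortExact hE (ses_shortExact I)
  have h0 : (tensorShort E (ses I)).f ≫ (SecTwist.unitorR E).hom ≫ ρ = 0 := by
    apply tensor_hom_ext
    intro x U hx
    refine ⟨U, le_rfl, hx, ?_⟩
    intro m n
    have h1 : appS (tensorShort E (ses I)).f U (tau E (ses I).X₁ U (m ⊗ₜ[Γ(X, U)] n)) =
        tau E (Coh.structureModule X) U (m ⊗ₜ[Γ(X, U)] fnL X U (OmegaSh.idealSect I U n)) :=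
      appS_tmap E (ClSub.idealModι I) U _
    have h2 : appS (SecTwist.unitorR E).hom U (tau E (Coh.structureModule X) U
        (m ⊗ₜ[Γ(X, U)] fnL X U (OmegaSh.idealSect I U n))) = OmegaSh.idealSect I U n • m :=
      SecTwist.unitorR_tmul E U m _
    have h3 : appS ρ U (OmegaSh.idealSect I U n • m) = 0 := by
      rw [map_smul]
      exact smul_tensor_eq_zero I E' U _ (cls_idealSect I U n) _
    refine (congrArg (appS ρ U) (congrArg (appS (SecTwist.unitorR E).hom U) h1)).trans ?_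
    exact (congrArg (appS ρ U) h2).trans h3
  have := hS.epi_g
  refine ⟨hS.exact.desc _ h0, ?_⟩
  rw [tensorMap_id_left]
  have h2 : tmap E (ClSub.toSubscheme I) ≫ hS.exact.desc _ h0 = (SecTwist.unitorR E).hom ≫ ρ :=
    hS.exact.g_desc _ h0
  rw [h2, Iso.inv_hom_id_assoc]

end K922.Residue
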