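import Groth.Agent.LogNCD.K922.Chart

/-!
# The basis of logarithmic forms on a chart
-/

set_option autoImplicit false
set_option linter.dupNamespace false

universe u

open CategoryTheory CategoryTheory.Limits AlgebraicGeometry Opposite TopologicalSpace
open scoped TensorProduct
open Groth.Agent.Sga67.Sec Groth.Agent.Sga67.LocBasis

namespace K922.LogBasis

open K922.Tens K922.Quot K922.DSec K922.Coord K922.Chart

variable {X S : Scheme.{u}} {f : X ⟶ S} {Ω' : X.Modules} {d : OmegaSh.Der f Ω'} {r : ℕ}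
  {D : Fin r → X.IdealSheafData} {n : ℕ}

theorem ι_injective (Λ : LogNCD.LogMod d D) (U : X.Opens) : Function.Injective (appS Λ.ι U) :=
  haveI := Λ.mono
  injective_of_mono Λ.ι U

/-- The rule of `LogMod` in the notation of sections. -/
theorem rule (Λ : LogNCD.LogMod d D) (U : X.affineOpens) (g : Fin r → Γ(X, U.1))
    (hg : ∀ i, (D i).ideal U = Ideal.span {g i}) :
    (∀ x : Sec Λ.L U.1, (∏ i, g i) • x = 0 → x = 0) ∧
    ∃ dl : Fin r → Sec Λ.L U.1,
      (∀ i, g i • dl i = appS Λ.ι U.1 (dS d U.1 (g i))) ∧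
      Submodule.span Γ(X, U.1) (Set.range (appS Λ.ι U.1) ∪ Set.range dl) = ⊤ ∧
      (∀ i, appS (Λ.res i) U.1 (dl i) = LogNCD.oneOn (D i) U.1) ∧
      (∀ i j, i ≠ j → appS (Λ.res j) U.1 (dl i) = 0) :=
  Λ.rule U g hg

/-- `L` has no torsion for the product of the equations, over any open of a chart. -/
theorem eq_zero_of_prod_smul (Λ : LogNCD.LogMod d D) {U : X.Opens} (c : Chart f D U n) {W : X.Opens}
    (h : W ≤ U) (x : Sec Λ.L W) (hx : resO X h (∏ i, c.g i) • x = 0) : x = 0 := by
  apply eq_of_locally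
  intro y hy
  obtain ⟨W', hW', hyW'⟩ := exists_affine_nhd (X := X) (U := W) (x := y) hy
  refine ⟨W'.1, hW', hyW', ?_⟩
  rw [map_zero]
  refine (rule Λ W' (fun i => resO X (hW'.trans h) (c.g i)) (fun i => c.ideal i W' (hW'.trans h))).1 _ ?_
  have := congrArg (res Λ.L hW') hx
  rw [res_smul, map_zero, resO_resO, map_prod] at this
  exact this

/-- A basis of log forms adapted to a chart. -/
structure LogBasis (Λ : LogNCD.LogMod d D) {U : X.Opens} (c : Chart f D U n) where
  b : Fin n → Sec Λ.L U
  isLocBasis : IsLocBasis b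
  smul_b : ∀ i k, c.e i = some k → c.g i • b k = appS Λ.ι U (dS d U (c.g i))
  b_none : ∀ k, (∀ i, c.e i ≠ some k) → b k = appS Λ.ι U (dS d U (c.v k))
  res_b : ∀ i k, c.e i = some k → appS (Λ.res i) U (b k) = LogNCD.oneOn (D i) U
  res_b_ne : ∀ i k, c.e i ≠ some k → appS (Λ.res i) U (b k) = 0

/-- The factor `h_k` with `h_k β_k = d v_k`. -/
noncomputable def fac {U : X.Opens} (c : Chart f D U n) (k : Fin n) : Γ(X, U) :=
  open Classical in if ∃ i, c.e i = some k then c.v k else 1

theorem isReg_fac {U : X.Opens} (c : Chart f D U n) (k : Fin n) : IsReg U (fac c k) := by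
  unfold fac
  split_ifs
  · exact c.coord.isReg k
  · exact isReg_one U

theorem fac_smul {Λ : LogNCD.LogMod d D} {U : X.Opens} {c : Chart f D U n} (B : LogBasis Λ c) (k : Fin n) :
    fac c k • B.b k = appS Λ.ι U (dS d U (c.v k)) := by
  unfold fac
  split_ifs with h
  · obtain ⟨i, hi⟩ := h
    have := B.smul_b i k hi
    rwa [c.g_some i k hi] at this
  · rw [one_smul]
    exact B.b_none k (fun i hi => h ⟨i, hi⟩)

/-- Independence: if `h_k β_k = ι ω_k` with `ω` a local basis, `h_k` regular, `ι` injective. -/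
theorem comb_injective {M N : X.Modules} (ι : M ⟶ N) [Mono ι] {U : X.Opens} {ω : Fin n → Sec M U}
    (hω : IsLocBasis ω) {b : Fin n → Sec N U} {h : Fin n → Γ(X, U)} (hreg : ∀ k, IsReg U (h k))
    (hb : ∀ k, h k • b k = appS ι U (ω k)) (V : X.Opens) (hV : V ≤ U) : Function.Injective (comb b hV) := by
  classical
  rw [← LinearMap.ker_eq_bot, LinearMap.ker_eq_bot']
  intro a ha
  have hb' : ∀ k, resO X hV (h k) • res N hV (b k) = appS ι V (res M hV (ω k)) := by
    intro k
    rw [← res_smul, hb, appS_res]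
  have h1 : comb ω hV (fun k => a k * resO X hV (∏ l ∈ Finset.univ.erase k, h l)) = 0 := by
    apply injective_of_mono ι V
    rw [map_zero, comb_apply, map_sum]
    have h2 : ∀ k, resO X hV (∏ l, h l) • (a k • res N hV (b k)) =
        appS ι V ((a k * resO X hV (∏ l ∈ Finset.univ.erase k, h l)) • res M hV (ω k)) := by
      intro k
      rw [map_smul, ← hb', ← Finset.mul_prod_erase Finset.univ h (Finset.mem_univ k), map_mul]
      simp only [smul_smul]
      congr 1
      ring
    rw [← Finset.sum_congr rfl (fun k _ => h2 k), ← Finset.smul_sum, ← comb_apply, ha, smul_zero]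
  have h3 := (hω V hV).1 (h1.trans (map_zero _).symm)
  funext k
  have h4 := congrFun h3 k
  simp only [Pi.zero_apply] at h4
  rw [mul_comm] at h4
  exact IsReg.prod (U := U) (Finset.univ.erase k) (fun l _ => hreg l) V hV (a k) h4

/-- **The basis of logarithmic forms on an affine chart.** -/
theorem exists_logBasis (hd : AffUniv d) (Λ : LogNCD.LogMod d D) {U : X.affineOpens} (c : Chart f D U.1 n) :
    Nonempty (LogBasis Λ c) := by
  classical
  obtain ⟨-, dl, h1, h2, h3, h4⟩ := rule Λ U c.g (fun i => by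
    have := c.ideal i U le_rfl
    rwa [resO_self] at this)
  have hω := c.coord.isLocBasis hd
  have := Λ.mono
  let b : Fin n → Sec Λ.L U.1 := fun k =>
    if h : ∃ i, c.e i = some k then dl h.choose else appS Λ.ι U.1 (dS d U.1 (c.v k))
  have hbs : ∀ i k, c.e i = some k → b k = dl i := by
    intro i k hi
    have h : ∃ i, c.e i = some k := ⟨i, hi⟩
    have : h.choose = i := c.inj _ _ k h.choose_spec hi
    simp only [b, h, dite_true]
    rw [this]
  have hbn : ∀ k, (∀ i, c.e i ≠ some k) → b k = appS Λ.ι U.1 (dS d U.1 (c.v k)) := by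
    intro k hk
    have h : ¬ ∃ i, c.e i = some k := fun ⟨i, hi⟩ => hk i hi
    simp only [b, h, dite_false]
  have hfac : ∀ k, fac c k • b k = appS Λ.ι U.1 (dS d U.1 (c.v k)) := by
    intro k
    by_cases h : ∃ i, c.e i = some k
    · obtain ⟨i, hi⟩ := h
      have h' : ∃ i, c.e i = some k := ⟨i, hi⟩
      rw [hbs i k hi, fac, if_pos h', ← c.g_some i k hi, h1]
    · rw [fac, if_neg h, one_smul, hbn k (fun i hi => h ⟨i, hi⟩)]
  have hinj := comb_injective Λ.ι hω (isReg_fac c) hfac
  have hB : IsLocBasis b := by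
    apply isLocBasis_of_locally
    intro x O hOU hxO
    obtain ⟨W, hWO, hxW⟩ := exists_affine_nhd (X := X) (U := O) (x := x) hxO
    have hWU := hWO.trans hOU
    refine ⟨W.1, hWU, hWO, hxW, hinj _ _, ?_⟩
    rw [← LinearMap.range_eq_top, eq_top_iff]
    obtain ⟨htf, dl', h1', h2', -, -⟩ := rule Λ W (fun i => resO X hWU (c.g i)) (fun i => c.ideal i W hWU)
    rw [← h2', Submodule.span_le]
    have hmem : ∀ k, res Λ.L hWU (b k) ∈ LinearMap.range (comb b hWU) := by
      intro k
      refine ⟨Pi.single k 1, ?_⟩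
      rw [comb_apply, Finset.sum_eq_single k]
      · simp
      · intro j _ hj
        simp [hj]
      · simp
    rintro y (⟨ω, rfl⟩ | ⟨i, rfl⟩)
    · obtain ⟨a, rfl⟩ := (hω W.1 hWU).2 ω
      rw [comb_apply, map_sum]
      refine Submodule.sum_mem _ fun k _ => ?_
      rw [map_smul]
      refine Submodule.smul_mem _ _ ?_
      have : appS Λ.ι W.1 (res Ω' hWU (dS d U.1 (c.v k))) = resO X hWU (fac c k) • res Λ.L hWU (b k) := by
        rw [← res_smul, hfac, appS_res]
      rw [this]
      exact Submodule.smul_mem _ _ (hmem k)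
    · have key : dl' i = res Λ.L hWU (dl i) := by
        rw [← sub_eq_zero]
        apply htf
        rw [← Finset.prod_erase_mul _ _ (Finset.mem_univ i), mul_smul, smul_sub, h1', ← res_smul, h1,
          ← appS_res, dS_res, sub_self, smul_zero]
      rw [key]
      rcases h : c.e i with _ | k
      · have h5 : dl i = 0 := by
          have := h1 i
          rwa [c.g_none i h, one_smul, dS_one, map_zero] at this
        rw [h5, map_zero]
        exact Submodule.zero_mem _
      · rw [← hbs i k h]
        exact hmem k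
  refine ⟨⟨b, hB, ?_, hbn, ?_, ?_⟩⟩
  · intro i k hi
    rw [hbs i k hi, h1]
  · intro i k hi
    rw [hbs i k hi]
    exact h3 i
  · intro i k hi
    by_cases h : ∃ j, c.e j = some k
    · obtain ⟨j, hj⟩ := h
      rw [hbs j k hj]
      apply h4
      rintro rfl
      exact hi hj
    · rw [hbn k (fun j hj => h ⟨j, hj⟩)]
      exact appS_res_ι _ Λ i U.1 _

/-- Restriction of a log basis. -/
noncomputable def LogBasis.restrict {Λ : LogNCD.LogMod d D} {U : X.Opens} {c : Chart f D U n}
    (B : LogBasis Λ c) {W : X.Opens} (h : W ≤ U) : LogBasis Λ (c.restrict h) where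
  b k := res Λ.L h (B.b k)
  isLocBasis := B.isLocBasis.restrict h
  smul_b i k hi := by
    have := congrArg (res Λ.L h) (B.smul_b i k hi)
    rw [res_smul, ← appS_res, dS_res] at this
    exact this
  b_none k hk := by
    have := congrArg (res Λ.L h) (B.b_none k hk)
    rw [← appS_res, dS_res] at this
    exact this
  res_b i k hi := by
    have := congrArg (res _ h) (B.res_b i k hi)
    rw [← appS_res, res_oneOn] at this
    exact this
  res_b_ne i k hi := by
    have := congrArg (res _ h) (B.res_b_ne i k hi)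
    rw [← appS_res, map_zero] at this
    exact this

/-- **Local existence of charts with a basis of logarithmic forms.** -/
theorem exists_logChart [Smooth f] (hd : AffUniv d) (hD : LogNCD.IsNCD D f) (Λ : LogNCD.LogMod d D)
    {O : X.Opens} {x : X} (hx : x ∈ O) :
    ∃ (U : X.affineOpens) (n : ℕ) (c : Chart f D U.1 n) (_ : LogBasis Λ c), x ∈ U.1 ∧ U.1 ≤ O := by
  obtain ⟨U, n, c, hxU, hU⟩ := exists_chart hD hx
  obtain ⟨B⟩ := exists_logBasis hd Λ c
  exact ⟨U, n, c, B, hxU, hU⟩

/-- `Ω¹(log D)` is finite locally free. -/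
theorem isFinLocFree [Smooth f] (hd : AffUniv d) (hD : LogNCD.IsNCD D f) (Λ : LogNCD.LogMod d D) :
    FlatMod.IsFinLocFree Λ.L := by
  apply isFinLocFree_of_exists
  intro x
  obtain ⟨U, n, c, B, hxU, -⟩ := exists_logChart hd hD Λ (O := ⊤) (x := x) trivial
  exact ⟨U.1, Fin n, inferInstance, B.b, hxU, B.isLocBasis⟩

end K922.LogBasis
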