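import Groth.Agent.LogNCD.K922.DSec
import Groth.Agent.LogNCD.K922.EtBasis
import Groth.Agent.Pi1.H411.Chart
import Mathlib.RingTheory.Etale.Basic

/-!
# Étale coordinates and differentials

`AffUniv d`: on affine opens `U ≤ f⁻¹ V` the sections of `Ω'` are the Kähler differentials, via `d`.
`IsCoord f U v`: `v` are étale coordinates on the open `U`; then the `dv_j` are a local basis of `Ω'` over `U`
and the `v_j` are nonzerodivisors on every open of `U`.
-/

set_option autoImplicit false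

universe u

open CategoryTheory CategoryTheory.Limits AlgebraicGeometry Opposite TopologicalSpace
open scoped TensorProduct
open Groth.Agent.Sga67.Sec Groth.Agent.Sga67.LocBasis

namespace K922.Coord

open K922.Tens K922.Quot K922.DSec

variable {X S : Scheme.{u}} {f : X ⟶ S} {Ω' : X.Modules}

/-- On affine opens the sections of `Ω'` are the Kähler differentials. -/
def AffUniv (d : OmegaSh.Der f Ω') : Prop :=
  ∀ (U : X.affineOpens) (V : S.affineOpens) (e : U.1 ≤ f ⁻¹ᵁ V.1),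
    letI := (f.appLE V.1 U.1 e).hom.toAlgebra
    ∃ ε : Ω[Γ(X, U.1)⁄Γ(S, V.1)] ≃ₗ[Γ(X, U.1)] Sec Ω' U.1,
      ∀ a, ε (KaehlerDifferential.D Γ(S, V.1) Γ(X, U.1) a) = dS d U.1 a

/-- Étale coordinates on the open `U`: on arbitrarily small affine opens of `U` lying over an affine open of the base,
the `v_j` define an étale algebra over the polynomial ring. -/
def IsCoord (f : X ⟶ S) (U : X.Opens) {σ : Type*} (v : σ → Γ(X, U)) : Prop :=
  ∀ (x : X) (O : X.Opens), O ≤ U → x ∈ O → ∃ (W : X.affineOpens) (h : W.1 ≤ U) (V : S.affineOpens)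
    (e : W.1 ≤ f ⁻¹ᵁ V.1), W.1 ≤ O ∧ x ∈ W.1 ∧
    (MvPolynomial.eval₂Hom (f.appLE V.1 W.1 e).hom (fun j => resO X h (v j))).Etale

theorem IsCoord.restrict {U : X.Opens} {σ : Type*} {v : σ → Γ(X, U)} (hv : IsCoord f U v)
    {W : X.Opens} (h : W ≤ U) : IsCoord f W (fun j => resO X h (v j)) := by
  intro x O hO hx
  obtain ⟨W', h', V, e, hW'O, hxW', het⟩ := hv x O (hO.trans h) hx
  refine ⟨W', hW'O.trans hO, V, e, hW'O, hxW', ?_⟩
  simpa only [resO_resO] using het

theorem exists_affine_pair (f : X ⟶ S) {O : X.Opens} {x : X} (hx : x ∈ O) :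
    ∃ (U : X.affineOpens) (V : S.affineOpens), x ∈ U.1 ∧ U.1 ≤ O ∧ U.1 ≤ f ⁻¹ᵁ V.1 := by
  obtain ⟨V, -, hV⟩ := exists_affine_nhd (X := S) (U := ⊤) (x := f x) trivial
  obtain ⟨U, hU, hxU⟩ := exists_affine_nhd (X := X) (U := O ⊓ f ⁻¹ᵁ V.1) (x := x) ⟨hx, hV⟩
  exact ⟨U, V, hxU, hU.trans inf_le_left, hU.trans inf_le_right⟩

/-- The differentials of étale coordinates are a local basis. -/
theorem IsCoord.isLocBasis {d : OmegaSh.Der f Ω'} (hd : AffUniv d) {U : X.Opens} {σ : Type*} [Fintype σ]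
    {v : σ → Γ(X, U)} (hv : IsCoord f U v) : IsLocBasis (fun j => dS d U (v j)) := by
  apply isLocBasis_of_locally
  intro x O hOU hxO
  obtain ⟨W, hWU, V, e, hWO, hxW, het⟩ := hv x O hOU hxO
  refine ⟨W.1, hWU, hWO, hxW, ?_⟩
  let := (f.appLE V.1 W.1 e).hom.toAlgebra
  obtain ⟨ε, hε⟩ := hd W V e
  obtain ⟨b, hb⟩ := K922.EtBasis.exists_basis (f.appLE V.1 W.1 e).hom (fun j => resO X hWU (v j)) het
  have key : ∀ a : σ → Γ(X, W.1), comb (fun j => dS d U (v j)) hWU a =
      (b.map ε).equivFun.symm a := by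
    intro a
    rw [comb_apply, Module.Basis.equivFun_symm_apply]
    refine Finset.sum_congr rfl fun j _ => ?_
    rw [dS_res, Module.Basis.map_apply, hb]
    exact congrArg _ (hε _).symm
  have : (comb (fun j => dS d U (v j)) hWU : (σ → Γ(X, W.1)) → Sec Ω' W.1) =
      (b.map ε).equivFun.symm := funext key
  rw [this]
  exact (b.map ε).equivFun.symm.bijective

/-- A function which is a nonzerodivisor on all small affine opens is one on all opens. -/
def IsReg (U : X.Opens) (g : Γ(X, U)) : Prop :=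
  ∀ (W : X.Opens) (h : W ≤ U) (a : Γ(X, W)), resO X h g * a = 0 → a = 0

theorem IsReg.restrict {U : X.Opens} {g : Γ(X, U)} (hg : IsReg U g) {W : X.Opens} (h : W ≤ U) :
    IsReg W (resO X h g) := by
  intro W' h' a ha
  rw [resO_resO] at ha
  exact hg W' (h'.trans h) a ha

theorem IsReg.mem_nonZeroDivisors {U : X.Opens} {g : Γ(X, U)} (hg : IsReg U g) :
    g ∈ nonZeroDivisors Γ(X, U) := by
  rw [mem_nonZeroDivisors_iff_right]
  intro a ha
  refine hg U le_rfl a ?_
  rw [resO_self, mul_comm, ha]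

theorem isReg_one (U : X.Opens) : IsReg U (1 : Γ(X, U)) := by
  intro W h a ha
  rwa [map_one, one_mul] at ha

theorem IsReg.mul {U : X.Opens} {g g' : Γ(X, U)} (hg : IsReg U g) (hg' : IsReg U g') : IsReg U (g * g') := by
  intro W h a ha
  rw [map_mul, mul_assoc] at ha
  exact hg' W h a (hg W h _ ha)

theorem IsReg.prod {U : X.Opens} {κ : Type*} (s : Finset κ) {g : κ → Γ(X, U)} (hg : ∀ i ∈ s, IsReg U (g i)) :
    IsReg U (∏ i ∈ s, g i) := by
  classical
  induction s using Finset.induction_on with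
  | empty => simpa using isReg_one U
  | insert i s hi ih =>
    rw [Finset.prod_insert hi]
    exact (hg i (Finset.mem_insert_self i s)).mul
      (ih fun j hj => hg j (Finset.mem_insert_of_mem hj))

theorem IsReg.pow {U : X.Opens} {g : Γ(X, U)} (hg : IsReg U g) (n : ℕ) : IsReg U (g ^ n) := by
  induction n with
  | zero => simpa using isReg_one U
  | succ n ih => rw [pow_succ]; exact ih.mul hg

theorem isReg_of_locally {U : X.Opens} {g : Γ(X, U)}
    (H : ∀ (x : X) (O : X.Opens), O ≤ U → x ∈ O → ∃ (W : X.Opens) (h : W ≤ U), W ≤ O ∧ x ∈ W ∧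
      ∀ a : Γ(X, W), resO X h g * a = 0 → a = 0) : IsReg U g := by
  intro W h a ha
  apply eqO_of_locally
  intro x hx
  obtain ⟨W', h', hW'W, hxW', H'⟩ := H x W h hx
  refine ⟨W', hW'W, hxW', ?_⟩
  rw [map_zero]
  apply H'
  have := congrArg (resO X hW'W) ha
  rwa [map_mul, map_zero, resO_resO] at this

theorem IsCoord.isReg {U : X.Opens} {σ : Type*} {v : σ → Γ(X, U)} (hv : IsCoord f U v) (j : σ) :
    IsReg U (v j) := by
  apply isReg_of_locally
  intro x O hOU hxO
  obtain ⟨W, hWU, V, e, hWO, hxW, het⟩ := hv x O hOU hxO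
  refine ⟨W.1, hWU, hWO, hxW, ?_⟩
  intro a ha
  have := K922.EtBasis.mem_nonZeroDivisors (f.appLE V.1 W.1 e).hom (fun j => resO X hWU (v j)) het j
  rw [mem_nonZeroDivisors_iff_right] at this
  exact this a (by rw [mul_comm]; exact ha)

/-- The coordinates of an étale morphism to affine space. -/
theorem isCoord_of_etale (f : X ⟶ S) {W : X.Opens} {σ : Type u} (v : σ → Γ(W, ⊤))
    (h : Etale (AffineSpace.homOfVector (W.ι ≫ f) v)) {U : X.Opens} (hU : U ≤ W) :
    IsCoord f U (fun j => LogNCD.sectOn W hU (v j)) := by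
  intro x O hOU hxO
  obtain ⟨W', V, hxW, hWO, e⟩ := exists_affine_pair f hxO
  refine ⟨W', hWO.trans hOU, V, e, hWO, hxW, ?_⟩
  have := Groth.Agent.Pi1.H411.Chart.etale_eval₂Hom_appLE f V.1 V.2 W'.1 W'.2 e W ((hWO.trans hOU).trans hU) v h
  convert this using 3
  exact resO_resO hU (hWO.trans hOU) (W.topIso.hom (v _))

/-- Étale coordinates on one affine open over an affine open of the base. -/
theorem isCoord_of_ring (f : X ⟶ S) (W : X.affineOpens) (V : S.affineOpens) (e : W.1 ≤ f ⁻¹ᵁ V.1)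
    {σ : Type*} (v : σ → Γ(X, W.1)) (h : (MvPolynomial.eval₂Hom (f.appLE V.1 W.1 e).hom v).Etale) :
    IsCoord f W.1 v := by
  intro x O hOU hxO
  obtain ⟨g, hgO, hxg⟩ := W.2.exists_basicOpen_le ⟨x, hxO⟩ (hOU hxO)
  refine ⟨⟨X.basicOpen g, W.2.basicOpen g⟩, X.basicOpen_le g, V, (X.basicOpen_le g).trans e, hgO, hxg, ?_⟩
  have h1 : MvPolynomial.eval₂Hom (f.appLE V.1 (X.basicOpen g) ((X.basicOpen_le g).trans e)).hom
      (fun j => resO X (X.basicOpen_le g) (v j)) =
      (resO X (X.basicOpen_le g)).comp (MvPolynomial.eval₂Hom (f.appLE V.1 W.1 e).hom v) := by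
    apply MvPolynomial.ringHom_ext
    · intro r
      simp only [MvPolynomial.eval₂Hom_C, RingHom.comp_apply]
      exact congr($((Scheme.Hom.appLE_map f e (homOfLE (X.basicOpen_le g)).op).symm).hom r)
    · intro j
      simp
  change (MvPolynomial.eval₂Hom (f.appLE V.1 (X.basicOpen g) ((X.basicOpen_le g).trans e)).hom
      (fun j => resO X (X.basicOpen_le g) (v j))).Etale
  rw [h1]
  let := (resO X (X.basicOpen_le g)).toAlgebra
  have : IsLocalization.Away g Γ(X, X.basicOpen g) := W.2.isLocalization_basicOpen g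
  have h2 : Algebra.Etale Γ(X, W.1) Γ(X, X.basicOpen g) := Algebra.Etale.of_isLocalizationAway g
  let := (MvPolynomial.eval₂Hom (f.appLE V.1 W.1 e).hom v).toAlgebra
  let := ((resO X (X.basicOpen_le g)).comp (MvPolynomial.eval₂Hom (f.appLE V.1 W.1 e).hom v)).toAlgebra
  have h3 : Algebra.Etale (MvPolynomial σ Γ(S, V.1)) Γ(X, W.1) := h
  have : IsScalarTower (MvPolynomial σ Γ(S, V.1)) Γ(X, W.1) Γ(X, X.basicOpen g) :=
    IsScalarTower.of_algebraMap_eq fun _ => rfl
  exact Algebra.Etale.comp (MvPolynomial σ Γ(S, V.1)) Γ(X, W.1) Γ(X, X.basicOpen g)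

/-- Local existence of étale coordinates. -/
theorem exists_isCoord (f : X ⟶ S) [Smooth f] {O : X.Opens} {x : X} (hx : x ∈ O) :
    ∃ (U : X.affineOpens) (n : ℕ) (v : Fin n → Γ(X, U.1)), x ∈ U.1 ∧ U.1 ≤ O ∧ IsCoord f U.1 v := by
  obtain ⟨V, hV, W, hW, hxW, e, hst⟩ := Smooth.exists_isStandardSmooth f x
  obtain ⟨n, g, hg, het⟩ := hst.exists_etale_mvPolynomial
  have hg' : g = MvPolynomial.eval₂Hom (f.appLE V W e).hom (fun j => g (MvPolynomial.X j)) := by
    apply MvPolynomial.ringHom_ext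
    · intro r
      simp only [MvPolynomial.eval₂Hom_C]
      rw [← hg]
      rfl
    · intro j
      simp
  rw [hg'] at het
  have := isCoord_of_ring f ⟨W, hW⟩ ⟨V, hV⟩ e _ het
  obtain ⟨U, hU, hxU⟩ := exists_affine_nhd (X := X) (U := O ⊓ W) (x := x) ⟨hx, hxW⟩
  exact ⟨U, n, _, hxU, hU.trans inf_le_left, this.restrict (hU.trans inf_le_right)⟩

/-- Local existence of étale coordinates, with the number of coordinates. -/
theorem exists_isCoord_of_rel (f : X ⟶ S) (n : ℕ) [SmoothOfRelativeDimension n f] {O : X.Opens} {x : X}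
    (hx : x ∈ O) :
    ∃ (U : X.affineOpens) (v : Fin n → Γ(X, U.1)), x ∈ U.1 ∧ U.1 ≤ O ∧ IsCoord f U.1 v := by
  obtain ⟨V, hV, W, hW, hxW, e, hst⟩ := SmoothOfRelativeDimension.exists_isStandardSmoothOfRelativeDimension (n := n) (f := f) x
  obtain ⟨g, hg, het⟩ := hst.exists_etale_mvPolynomial
  have hg' : g = MvPolynomial.eval₂Hom (f.appLE V W e).hom (fun j => g (MvPolynomial.X j)) := by
    apply MvPolynomial.ringHom_ext
    · intro r
      simp only [MvPolynomial.eval₂Hom_C]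
      rw [← hg]
      rfl
    · intro j
      simp
  rw [hg'] at het
  have := isCoord_of_ring f ⟨W, hW⟩ ⟨V, hV⟩ e _ het
  obtain ⟨U, hU, hxU⟩ := exists_affine_nhd (X := X) (U := O ⊓ W) (x := x) ⟨hx, hxW⟩
  exact ⟨U, _, hxU, hU.trans inf_le_left, this.restrict (hU.trans inf_le_right)⟩

end K922.Coord
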