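import Groth.Agent.LogNCD.K922.Quot

/-!
# Derivations on sections
-/

set_option autoImplicit false

universe u

open CategoryTheory CategoryTheory.Limits AlgebraicGeometry Opposite TopologicalSpace
open scoped TensorProduct
open Groth.Agent.Sga67.Sec Groth.Agent.Sga67.LocBasis

namespace K922.DSec

open K922.Tens K922.Quot

variable {X S : Scheme.{u}} {f : X ⟶ S} {Ω' : X.Modules} (d : OmegaSh.Der f Ω')

/-- The derivation on sections. -/
noncomputable def dS (U : X.Opens) : Γ(X, U) →+ Sec Ω' U := d.app U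

theorem dS_eq (U : X.Opens) (a : Γ(X, U)) : dS d U a = d.app U a := rfl

theorem dS_mul (U : X.Opens) (a b : Γ(X, U)) : dS d U (a * b) = a • dS d U b + b • dS d U a :=
  d.d_mul (X := op U) a b

theorem dS_res {U V : X.Opens} (h : V ≤ U) (a : Γ(X, U)) :
    res Ω' h (dS d U a) = dS d V (resO X h a) :=
  (d.d_map (X := op U) (Y := op V) (homOfLE h).op a).symm

theorem dS_one (U : X.Opens) : dS d U 1 = 0 := by
  have h := dS_mul d U 1 1
  rw [mul_one, one_smul] at h
  exact left_eq_add.mp h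

/-- `d` kills functions coming from the base. -/
theorem dS_base (V : S.Opens) (c : Γ(S, V)) : dS d (f ⁻¹ᵁ V) (f.app V c) = 0 :=
  d.d_app (X := op V) c

theorem dS_appLE {V : S.Opens} {U : X.Opens} (e : U ≤ f ⁻¹ᵁ V) (c : Γ(S, V)) :
    dS d U (f.appLE V U e c) = 0 := by
  have h : f.appLE V U e c = resO X e (f.app V c) := rfl
  rw [h, ← dS_res, dS_base, map_zero]

variable {r : ℕ} {D : Fin r → X.IdealSheafData}

theorem dS_der (Λ : LogNCD.LogMod d D) (U : X.Opens) (t : Γ(X, U)) :
    dS (LogNCD.der Λ) U t = appS Λ.ι U (dS d U t) := rfl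

theorem appS_res_ι (Λ : LogNCD.LogMod d D) (i : Fin r) (U : X.Opens) (s : Sec Ω' U) :
    appS (Λ.res i) U (appS Λ.ι U s) = 0 := by
  rw [← appS_comp, Λ.res_ι i, appS_zero]

end K922.DSec
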