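import Groth.Agent.LogNCD.K922.LogExist4
import Groth.Agent.LogNCD.K922.Univ
import Groth.Agent.Ega2.QCohLocal

/-!
# Existence of the log module
-/

set_option autoImplicit false

universe u

open CategoryTheory CategoryTheory.Limits AlgebraicGeometry Opposite TopologicalSpace
open scoped TensorProduct
open Groth.Agent.Sga67.Sec Groth.Agent.Sga67.LocBasis

namespace K922.LogExist

open K922.Tens K922.Quot K922.DSec K922.Coord K922.Chart K922.LogBasis K922.Frac K922.JStar K922.Univ

variable {X S : Scheme.{u}} {f : X ⟶ S} {Ω' : X.Modules} {d : OmegaSh.Der f Ω'} {r : ℕ}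
  {D : Fin r → X.IdealSheafData}

/-- **Existence of the sheaf of differentials with logarithmic poles.** -/
theorem exists_logMod [Smooth f] (hd : OmegaSh.IsUniversal d) (hD : LogNCD.IsNCD D f) :
    Nonempty (LogNCD.LogMod d D) := by
  have hd' := affUniv hd
  have hq : SheafOfModules.IsQuasicoherent (R := X.ringCatSheaf) Ω' :=
    K583.UnivAffine.isQuasicoherent_of_isUniversal hd
  have hm : Mono (rho (compl D) Ω') := mono_rho_compl hd' hD
  obtain ⟨m⟩ := exists_mdl d D
  choose ρ hρ using exists_res hd' hD m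
  have hq' : SheafOfModules.IsQuasicoherent (R := X.ringCatSheaf) m.L :=
    Groth.Agent.Ega2.QCohLocal.isQCoh_of_isFinLocFree (isFinLocFree_mdl hd' hD m)
  refine ⟨⟨m.L, m.ι, ρ, m.mono_ι, fun i => ?_, fun U g hg => rule_mdl hd' hD m ρ hρ U g hg⟩⟩
  apply hom_ext_of_locally
  intro x O hx
  obtain ⟨U, n, c, hxU, hU⟩ := exists_chart hD hx
  obtain ⟨B⟩ := exists_MB hd' m c
  refine ⟨U.1, hU, hxU, fun s => ?_⟩
  rw [appS_comp, hρ i U n c B, resc_ι hd', appS_zero]

end K922.LogExist
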