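import Groth.Agent.LogNCD.K922.SubSeq
import Groth.Agent.LogNCD.K922.Univ
import Groth.Agent.LogNCD.K913.Chart

/-!
# Interface forms of the chart theorem
-/

set_option autoImplicit false

universe u

open CategoryTheory CategoryTheory.Limits AlgebraicGeometry Opposite TopologicalSpace
open scoped TensorProduct
open Groth.Agent.Sga67.Sec Groth.Agent.Sga67.LocBasis

namespace K922.Interface

open K922.Tens K922.Quot K922.DSec K922.Coord K922.Chart K922.LogBasis K922.Univ

variable {X S : Scheme.{u}} {f : X ⟶ S} {Ω' : X.Modules} {d : OmegaSh.Der f Ω'} {r : ℕ}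
  {D : Fin r → X.IdealSheafData} {n : ℕ}

/-- The chart of `K913` defined by a chart with a basis of logarithmic forms. -/
noncomputable def toCh {Λ : LogNCD.LogMod d D} {U : X.affineOpens} {c : Chart f D U.1 n} (B : LogBasis Λ c) :
    K913.Chart.Ch Λ U where
  n := n
  g := c.g
  ideal_eq i := by
    have := c.ideal i U le_rfl
    rwa [resO_self] at this
  g_mem i := (c.isReg_g i).mem_nonZeroDivisors
  ω := B.b
  isLocBasis := B.isLocBasis
  e := c.e
  e_inj := c.inj
  none_one := c.g_none
  ω_some i k hi := B.smul_b i k hi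
  res_self := B.res_b
  res_ne := B.res_b_ne
  ω_other k hk := ⟨c.v k, B.b_none k hk⟩

/-- **Log charts exist.** -/
theorem hasCharts [Smooth f] (hd : OmegaSh.IsUniversal d) (hD : LogNCD.IsNCD D f) (Λ : LogNCD.LogMod d D) :
    K913.Chart.HasCharts Λ := by
  intro x O hx
  obtain ⟨U, n, c, B, hxU, hU⟩ := exists_logChart (affUniv hd) hD Λ hx
  exact ⟨U, hxU, hU, ⟨toCh B⟩⟩

/-- A chart from the data of `IsNCD` on any open `U ≤ W`: `W → 𝔸ⁿ` étale, the components with index in `T` are cut out
by distinct coordinates, the others are empty on `W`. -/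
theorem exists_chart_of {W : X.Opens} (v : ULift.{u} (Fin n) → Γ(W, ⊤))
    (hv : Etale (AffineSpace.homOfVector (W.ι ≫ f) v)) (T : Fin r → Prop) (e : {i // T i} → Fin n)
    (he : Function.Injective e)
    (h1 : ∀ (i : {i // T i}) (U : X.affineOpens) (h : U.1 ≤ W),
      (D i.1).ideal U = Ideal.span {LogNCD.sectOn W h (v (ULift.up (e i)))})
    (h2 : ∀ i, ¬ T i → ∀ U : X.affineOpens, U.1 ≤ W → (D i).ideal U = ⊤) {U : X.Opens} (hU : U ≤ W) :
    ∃ c : Chart f D U n, (∀ k, c.v k = LogNCD.sectOn W hU (v (ULift.up k))) ∧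
      (∀ i k, c.e i = some k ↔ ∃ h : T i, e ⟨i, h⟩ = k) ∧ (∀ i, c.e i = none ↔ ¬ T i) := by
  classical
  have hc := isCoord_of_etale f v hv hU
  have hc' : IsCoord f U (fun k : Fin n => LogNCD.sectOn W hU (v (ULift.up k))) := by
    intro y O' hO' hy
    obtain ⟨W', h, V, e, hWO, hxW, het⟩ := hc y O' hO' hy
    refine ⟨W', h, V, e, hWO, hxW, ?_⟩
    have h1 : MvPolynomial.eval₂Hom (f.appLE V.1 W'.1 e).hom
        (fun k : Fin n => resO X h (LogNCD.sectOn W hU (v (ULift.up k)))) =
        (MvPolynomial.eval₂Hom (f.appLE V.1 W'.1 e).hom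
          (fun j => resO X h (LogNCD.sectOn W hU (v j)))).comp
          (MvPolynomial.renameEquiv Γ(S, V.1) Equiv.ulift.{u}.symm).toRingEquiv.toRingHom := by
      apply MvPolynomial.ringHom_ext
      · intro r
        simp
      · intro j
        simp
    rw [h1]
    exact RingHom.Etale.respectsIso.2 _ _ het
  refine ⟨⟨fun k => LogNCD.sectOn W hU (v (ULift.up k)),
    fun i => if h : T i then some (e ⟨i, h⟩) else none,
    fun i => if h : T i then LogNCD.sectOn W hU (v (ULift.up (e ⟨i, h⟩))) else 1,
    hc', ?_, ?_, ?_, ?_⟩, fun _ => rfl, ?_, ?_⟩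
  · intro i j k hi hj
    by_cases hi' : T i <;> by_cases hj' : T j <;>
      simp only [hi', hj', dite_true, dite_false, Option.some.injEq, reduceCtorEq] at hi hj
    have := he (hi.trans hj.symm)
    exact congrArg Subtype.val this
  · intro i hi
    by_cases hi' : T i <;>
      simp only [hi', dite_true, dite_false, reduceCtorEq] at hi ⊢
  · intro i k hi
    by_cases hi' : T i <;>
      simp only [hi', dite_true, dite_false, Option.some.injEq, reduceCtorEq] at hi ⊢
    rw [hi]
  · intro i V h
    by_cases hi' : T i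
    · simp only [hi', dite_true]
      rw [h1 ⟨i, hi'⟩ V (h.trans hU)]
      congr 2
      exact (resO_resO hU h (W.topIso.hom _)).symm
    · simp only [hi', dite_false, map_one]
      rw [h2 i hi' V (h.trans hU), Ideal.span_singleton_one]
  · intro i k
    by_cases hi' : T i <;> simp [hi']
  · intro i
    by_cases hi' : T i <;> simp [hi']

end K922.Interface
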