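import Groth.Agent.LogNCD.K922.DSec
import Groth.Prelude.Def_DeRham2
import Groth.Agent.LogNCD.K913.LogDG

/-!
# A de Rham complex as the de Rham complex of the trivial connection
-/

set_option autoImplicit false

universe u

open CategoryTheory CategoryTheory.Limits AlgebraicGeometry Opposite TopologicalSpace
open scoped TensorProduct
open Groth.Agent.Sga67.Sec Groth.Agent.Sga67.LocBasis

namespace K922.OfDR

open K922.Tens K922.Quot K922.DSec

variable {X S : Scheme.{u}}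

/-- The structure sheaf as a module. -/
noncomputable abbrev OO (X : Scheme.{u}) : X.Modules := Coh.structureModule X

/-- A function as a section of the structure sheaf, linearly. -/
noncomputable def oE (X : Scheme.{u}) (U : X.Opens) : Sec (OO X) U ≃ₗ[Γ(X, U)] Γ(X, U) where
  toFun s := toO s
  invFun a := fnL X U a
  left_inv _ := rfl
  right_inv _ := rfl
  map_add' _ _ := rfl
  map_smul' _ _ := rfl

theorem oE_symm (U : X.Opens) (a : Γ(X, U)) : (oE X U).symm a = fnL X U a := rfl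

theorem oE_one (U : X.Opens) : oE X U (one X U) = 1 := rfl

theorem oE_res {U V : X.Opens} (h : V ≤ U) (s : Sec (OO X) U) : oE X V (res _ h s) = resO X h (oE X U s) := rfl

theorem oE_smul_one (U : X.Opens) (s : Sec (OO X) U) : oE X U s • one X U = s := toO_smul_one s

section unit

variable (L : X.Modules)

/-- `O ⊗ M ≃ M` on sections. -/
noncomputable def lidE (U : X.Opens) (M : Type u) [AddCommGroup M] [Module Γ(X, U) M] :
    Sec (OO X) U ⊗[Γ(X, U)] M ≃ₗ[Γ(X, U)] M :=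
  (TensorProduct.congr (oE X U) (LinearEquiv.refl _ _)).trans (TensorProduct.lid _ _)

theorem lidE_tmul (U : X.Opens) (M : Type u) [AddCommGroup M] [Module Γ(X, U) M] (e : Sec (OO X) U) (m : M) :
    lidE U M (e ⊗ₜ m) = oE X U e • m := rfl

theorem lidE_symm (U : X.Opens) (M : Type u) [AddCommGroup M] [Module Γ(X, U) M] (m : M) :
    (lidE U M).symm m = one X U ⊗ₜ[Γ(X, U)] m := by
  rw [LinearEquiv.symm_apply_eq, lidE_tmul, oE_one, _root_.one_smul]

theorem lidE_res {U V : X.Opens} (h : V ≤ U) (m : Sec (OO X) U) (n : Sec L U) :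
    lidE V (Sec L V) (res (OO X) h m ⊗ₜ[Γ(X, V)] res L h n) = res L h (lidE U (Sec L U) (m ⊗ₜ[Γ(X, U)] n)) := by
  rw [lidE_tmul, lidE_tmul, res_smul, oE_res]

theorem exists_unitL : ∃ e : CohB1.tensorMod (OO X) L ≅ L, ∀ (U : X.Opens) (t : Sec (OO X) U ⊗[Γ(X, U)] Sec L U),
    appS e.hom U (tau (OO X) L U t) = lidE U (Sec L U) t := by
  have hB : Opens.IsBasis (Set.range (id : X.Opens → X.Opens)) := by
    rw [Set.range_id]
    exact Opens.isBasis_iff_nbhd.mpr fun {U x} hx => ⟨U, trivial, hx, le_rfl⟩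
  obtain ⟨f, hf⟩ := exists_tensor_hom hB (OO X) L L (fun U => (lidE U (Sec L U)).toLinearMap) (by
    intro U V h m n
    exact lidE_res L h m n)
  have h1 : Mono f := mono_of_locally_injective f (by
    intro x U hx
    refine ⟨U, le_rfl, hx, fun s hs => ?_⟩
    apply eq_of_locally
    intro y hy
    obtain ⟨V, hV, hyV, t, ht⟩ := tau_locsurj (OO X) L s y hy
    refine ⟨V, hV, hyV, ?_⟩
    have h2 : lidE V (Sec L V) t = 0 := by
      have h3 := hf V t
      have h4 : appS f V (res _ hV s) = 0 := by rw [appS_res, hs, map_zero]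
      exact h3.symm.trans ((congrArg (appS f V) ht).trans h4)
    have h5 : t = 0 := (lidE V (Sec L V)).injective (h2.trans (map_zero _).symm)
    rw [← ht, h5, map_zero, map_zero])
  have h2 : Epi f := epi_of_locally_surjective f (by
    intro U s x hx
    refine ⟨U, le_rfl, hx, tau (OO X) L U ((lidE U (Sec L U)).symm s), ?_⟩
    rw [res_self]
    exact (hf U _).trans ((lidE U (Sec L U)).apply_symm_apply s))
  have h3 : IsIso f := isIso_of_mono_of_epi f
  exact ⟨asIso f, fun U t => hf U t⟩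

/-- `O ⊗ L ≅ L`. -/
noncomputable def uL : CohB1.tensorMod (OO X) L ≅ L := (exists_unitL L).choose

theorem uL_tau (U : X.Opens) (t : Sec (OO X) U ⊗[Γ(X, U)] Sec L U) :
    appS (uL L).hom U (tau (OO X) L U t) = lidE U (Sec L U) t := (exists_unitL L).choose_spec U t

theorem uL_inv (U : X.Opens) (s : Sec L U) :
    appS (uL L).inv U s = tau (OO X) L U (one X U ⊗ₜ[Γ(X, U)] s) := by
  have h := congrArg (appS (uL L).inv U) (uL_tau L U (one X U ⊗ₜ[Γ(X, U)] s))
  rw [appS_hom_inv, lidE_tmul, oE_one, _root_.one_smul] at h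
  exact h.symm

end unit

open K913.Contr in
theorem alg_aux {B N : Type u} [CommRing B] [AddCommGroup N] [Module B N] (x y : N) (a b : B) (p : ℕ)
    (v : Fin p → N) : lw x p (b • exteriorPower.ιMulti B p v) + a • exteriorPower.ιMulti B (p + 1) (Fin.cons y v) =
      exteriorPower.ιMulti B (p + 1) (Fin.cons (a • y + b • x) v) := by
  rw [← lw_ιMulti, ← lw_ιMulti, lw_add, lw_smul, lw_smul, LinearMap.add_apply, LinearMap.smul_apply,
    LinearMap.smul_apply, map_smul]
  exact add_comm _ _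

theorem zero_aux {B N : Type u} [CommRing B] [AddCommGroup N] [Module B N] (a : B) :
    exteriorPower.zeroEquiv B N (a • exteriorPower.ιMulti B 0 ![]) = a := by
  rw [map_smul, exteriorPower.zeroEquiv_ιMulti, smul_eq_mul, mul_one]

section cx

variable {f : X ⟶ S} {L : X.Modules} {δ : OmegaSh.Der f L} (K : DeRhamSh.Cx f L δ)

/-- `loc` with values in `Sec`. -/
noncomputable def lo (p : ℕ) (U : X.affineOpens) :
    Sec (K.term p) U.1 ≃ₗ[Γ(X, U.1)] ↥(⋀[Γ(X, U.1)]^p (Sec L U.1)) := K.loc p U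

theorem lo_symm_res (p : ℕ) {U V : X.affineOpens} (h : V.1 ≤ U.1) (e : Fin p → Sec L U.1) :
    res (K.term p) h ((lo K p U).symm (exteriorPower.ιMulti _ p e)) =
      (lo K p V).symm (exteriorPower.ιMulti _ p (fun j => res L h (e j))) :=
  K.loc_res p U V h e

theorem exists_iso_of_affine {M N : X.Modules} (φ : ∀ U : X.affineOpens, Sec M U.1 ≃ₗ[Γ(X, U.1)] Sec N U.1)
    (hφ : ∀ (U V : X.affineOpens) (h : V.1 ≤ U.1) (s : Sec M U.1), φ V (res M h s) = res N h (φ U s)) :
    ∃ e : M ≅ N, ∀ (U : X.affineOpens) (s : Sec M U.1), appS e.hom U.1 s = φ U s := by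
  obtain ⟨g, hg⟩ := exists_hom_of_basis' (affineBasis X) M N (fun U => (φ U).toLinearMap)
    (fun U V h s => hφ U V h s)
  have : IsIso g := isIso_of_bijective g (by
    intro x U hx
    obtain ⟨V, hV, hxV⟩ := exists_affine_nhd (X := X) hx
    refine ⟨V.1, hV, hxV, ?_⟩
    have h1 : (appS g V.1 : Sec M V.1 → Sec N V.1) = φ V := funext fun s => hg V s
    rw [h1]
    exact (φ V).bijective)
  exact ⟨asIso g, hg⟩

theorem exists_iso0 : ∃ e : K.term 0 ≅ OO X, ∀ (U : X.affineOpens) (a : Γ(X, U.1)),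
    appS e.hom U.1 ((lo K 0 U).symm (a • exteriorPower.ιMulti _ 0 ![])) = fnL X U.1 a := by
  let φ : ∀ U : X.affineOpens, Sec (K.term 0) U.1 ≃ₗ[Γ(X, U.1)] Sec (OO X) U.1 := fun U =>
    ((lo K 0 U).trans (exteriorPower.zeroEquiv Γ(X, U.1) (Sec L U.1))).trans (oE X U.1).symm
  have hφ : ∀ (U : X.affineOpens) (a : Γ(X, U.1)),
      φ U ((lo K 0 U).symm (a • exteriorPower.ιMulti _ 0 ![])) = fnL X U.1 a := by
    intro U a
    refine (congrArg (fun y => (oE X U.1).symm (exteriorPower.zeroEquiv Γ(X, U.1) (Sec L U.1) y))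
      ((lo K 0 U).apply_symm_apply _)).trans ?_
    exact congrArg (oE X U.1).symm (zero_aux a)
  have hex : ∀ (U : X.affineOpens) (s : Sec (K.term 0) U.1), ∃ a : Γ(X, U.1),
      s = (lo K 0 U).symm (a • exteriorPower.ιMulti _ 0 ![]) := by
    intro U s
    refine ⟨exteriorPower.zeroEquiv _ _ (lo K 0 U s), ?_⟩
    apply (lo K 0 U).injective
    rw [LinearEquiv.apply_symm_apply]
    apply (exteriorPower.zeroEquiv Γ(X, U.1) (Sec L U.1)).injective
    exact (zero_aux _).symm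
  obtain ⟨e, he⟩ := exists_iso_of_affine φ (by
    intro U V h s
    obtain ⟨a, rfl⟩ := hex U s
    rw [hφ, res_fnL, ← hφ V]
    refine congrArg (φ V) ?_
    refine (congrArg (res (K.term 0) h) ((lo K 0 U).symm.map_smul a _)).trans ?_
    refine (res_smul _ h _ _).trans ?_
    refine (congrArg (resO X h a • ·) (lo_symm_res K 0 h ![])).trans ?_
    have h1 : (fun j => res L h ((![] : Fin 0 → Sec L U.1) j)) = ![] := Subsingleton.elim _ _
    refine (congrArg (fun v => resO X h a • (lo K 0 V).symm (exteriorPower.ιMulti _ 0 v)) h1).trans ?_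
    exact ((lo K 0 V).symm.map_smul _ _).symm)
  exact ⟨e, fun U a => (he U _).trans (hφ U a)⟩

theorem exists_iso1 : ∃ e : K.term 1 ≅ CohB1.tensorMod (OO X) L, ∀ (U : X.affineOpens) (s : Sec L U.1),
    appS e.hom U.1 ((lo K 1 U).symm (exteriorPower.ιMulti _ 1 ![s])) =
      tau (OO X) L U.1 (one X U.1 ⊗ₜ[Γ(X, U.1)] s) := by
  let φ : ∀ U : X.affineOpens, Sec (K.term 1) U.1 ≃ₗ[Γ(X, U.1)] Sec L U.1 := fun U =>
    (lo K 1 U).trans (exteriorPower.oneEquiv Γ(X, U.1) (Sec L U.1))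
  have hφ : ∀ (U : X.affineOpens) (s : Sec L U.1),
      φ U ((lo K 1 U).symm (exteriorPower.ιMulti _ 1 ![s])) = s := by
    intro U s
    simp only [φ, LinearEquiv.trans_apply, LinearEquiv.apply_symm_apply, exteriorPower.oneEquiv_ιMulti]
    rfl
  have hex : ∀ (U : X.affineOpens) (s : Sec (K.term 1) U.1), ∃ t : Sec L U.1,
      s = (lo K 1 U).symm (exteriorPower.ιMulti _ 1 ![t]) :=
    fun U s => ⟨φ U s, (φ U).injective (hφ U _).symm⟩
  obtain ⟨e, he⟩ := exists_iso_of_affine φ (by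
    intro U V h s
    obtain ⟨t, rfl⟩ := hex U s
    rw [hφ, lo_symm_res]
    have h1 : (fun j => res L h ((![t] : Fin 1 → Sec L U.1) j)) = ![res L h t] := by
      ext j
      fin_cases j
      rfl
    rw [h1, hφ])
  refine ⟨e ≪≫ (uL L).symm, fun U s => ?_⟩
  have h1 := (he U _).trans (hφ U s)
  change appS (e.hom ≫ (uL L).inv) U.1 _ = _
  rw [appS_comp, h1, uL_inv]

/-- The degree zero term. -/
noncomputable def iso0 : K.term 0 ≅ OO X := (exists_iso0 K).choose

theorem iso0_hom (U : X.affineOpens) (a : Γ(X, U.1)) :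
    appS (iso0 K).hom U.1 ((lo K 0 U).symm (a • exteriorPower.ιMulti _ 0 ![])) = fnL X U.1 a :=
  (exists_iso0 K).choose_spec U a

theorem iso0_inv (U : X.affineOpens) (a : Γ(X, U.1)) :
    appS (iso0 K).inv U.1 (fnL X U.1 a) = (lo K 0 U).symm (a • exteriorPower.ιMulti _ 0 ![]) := by
  rw [← iso0_hom K U a, appS_hom_inv]

/-- The degree one term. -/
noncomputable def iso1 : K.term 1 ≅ CohB1.tensorMod (OO X) L := (exists_iso1 K).choose

theorem iso1_hom (U : X.affineOpens) (s : Sec L U.1) :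
    appS (iso1 K).hom U.1 ((lo K 1 U).symm (exteriorPower.ιMulti _ 1 ![s])) =
      tau (OO X) L U.1 (one X U.1 ⊗ₜ[Γ(X, U.1)] s) :=
  (exists_iso1 K).choose_spec U s

theorem iso1_inv (U : X.affineOpens) (s : Sec L U.1) :
    appS (iso1 K).inv U.1 (tau (OO X) L U.1 (one X U.1 ⊗ₜ[Γ(X, U.1)] s)) =
      (lo K 1 U).symm (exteriorPower.ιMulti _ 1 ![s]) := by
  rw [← iso1_hom K U s, appS_hom_inv]

/-- The trivial connection. -/
noncomputable def conn : Coh.toAb (OO X) ⟶ Coh.toAb (CohB1.tensorMod (OO X) L) :=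
  (SheafOfModules.toSheaf X.ringCatSheaf).map (iso0 K).inv ≫ (K.iso 0).inv ≫ K.K.d 0 1 ≫ (K.iso 1).hom ≫
    (SheafOfModules.toSheaf X.ringCatSheaf).map (iso1 K).hom

theorem conn_affine (U : X.affineOpens) (a : Γ(X, U.1)) :
    ConnSh.secApp (conn K) U.1 (fnL X U.1 a) = tau (OO X) L U.1 (one X U.1 ⊗ₜ[Γ(X, U.1)] dS δ U.1 a) := by
  have h := K.rule 0 U a ![]
  have h0 : (fun i => δ.app U.1 ((![] : Fin 0 → Γ(X, U.1)) i)) = ![] := Subsingleton.elim _ _
  have h1 : ConnSh.secApp (conn K) U.1 (fnL X U.1 a) = appS (iso1 K).hom U.1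
      ((K.iso 1).hom.hom.app (op U.1) ((K.K.d 0 1).hom.app (op U.1) ((K.iso 0).inv.hom.app (op U.1)
        (appS (iso0 K).inv U.1 (fnL X U.1 a))))) := rfl
  rw [h1, iso0_inv, ← iso1_hom]
  congr 1
  rw [h0] at h
  refine (congrArg ((K.iso 1).hom.hom.app (op U.1)) h).trans ?_
  have h2 := congrArg (fun ψ => ψ.hom.app (op U.1)) (K.iso 1).inv_hom_id
  refine (ConcreteCategory.congr_hom h2 _).trans ?_
  have h3 : (Fin.cons (δ.app U.1 a) ![] : Fin 1 → Sec L U.1) = ![dS δ U.1 a] := by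
    ext j
    fin_cases j
    rfl
  exact congrArg (fun v => (lo K 1 U).symm (exteriorPower.ιMulti _ 1 v)) h3

theorem conn_apply (U : X.Opens) (a : Γ(X, U)) :
    ConnSh.secApp (conn K) U (fnL X U a) = tau (OO X) L U (one X U ⊗ₜ[Γ(X, U)] dS δ U a) := by
  apply eq_of_locally
  intro x hx
  obtain ⟨V, hV, hxV⟩ := exists_affine_nhd (X := X) hx
  refine ⟨V.1, hV, hxV, ?_⟩
  rw [← secApp_res, res_fnL, conn_affine, ← tau_tres, tres_tmul, dS_res, res_one]

theorem isConn : ConnSh.IsConn δ (OO X) (conn K) := by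
  intro U t e
  obtain ⟨a, rfl⟩ : ∃ a, fnL X U a = e := ⟨oE X U e, rfl⟩
  have h1 : t • fnL X U a = fnL X U (t * a) := by rw [← smul_eq_mul, map_smul]
  have h2 : SecTwist.tmul (OO X) L U (fnL X U a) (δ.app U t) =
      tau (OO X) L U (one X U ⊗ₜ[Γ(X, U)] (a • dS δ U t)) := by
    rw [← TensorProduct.smul_tmul]
    refine (tmul_eq_tau (OO X) L U (fnL X U a) (dS δ U t)).trans ?_
    exact congrArg (fun e => tau (OO X) L U (e ⊗ₜ[Γ(X, U)] dS δ U t)) (oE_smul_one U (fnL X U a)).symm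
  refine (congrArg (ConnSh.secApp (conn K) U) h1).trans ?_
  refine (conn_apply K U (t * a)).trans ?_
  rw [dS_mul, TensorProduct.tmul_add, map_add, TensorProduct.tmul_smul, map_smul]
  exact (congrArg₂ (· + ·) (congrArg (t • ·) (conn_apply K U a)) h2).symm

theorem lidE_symm_tmul (U : X.affineOpens) (p : ℕ) (e : Sec (OO X) U.1)
    (y : ↥(⋀[Γ(X, U.1)]^p (Sec L U.1))) :
    ((lo K p U).trans (lidE U.1 _).symm).symm (e ⊗ₜ y) = oE X U.1 e • (lo K p U).symm y := by
  change (lo K p U).symm (lidE U.1 _ (e ⊗ₜ y)) = _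
  rw [lidE_tmul, map_smul]

theorem loc_res_aux (p : ℕ) {U V : X.affineOpens} (h : V.1 ≤ U.1) (e : Sec (OO X) U.1) (ω : Fin p → Sec L U.1) :
    res (K.term p) h (oE X U.1 e • (lo K p U).symm (exteriorPower.ιMulti _ p ω)) =
      oE X V.1 (res (OO X) h e) • (lo K p V).symm (exteriorPower.ιMulti _ p (fun j => res L h (ω j))) := by
  rw [res_smul, lo_symm_res, oE_res]

theorem loc1_aux (U : X.affineOpens) (e : Sec (OO X) U.1) (ω : Sec L U.1) :
    appS (iso1 K).hom U.1 (oE X U.1 e • (lo K 1 U).symm (exteriorPower.ιMulti _ 1 ![ω])) =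
      tau (OO X) L U.1 (e ⊗ₜ[Γ(X, U.1)] ω) := by
  rw [map_smul, iso1_hom, ← map_smul, TensorProduct.smul_tmul', oE_smul_one]

theorem conn_d0 (U : X.Opens) (s : Sec (K.term 0) U) :
    appS (iso1 K).inv U (ConnSh.secApp (conn K) U (appS (iso0 K).hom U s)) =
      (K.iso 1).hom.hom.app (op U) ((K.K.d 0 1).hom.app (op U) ((K.iso 0).inv.hom.app (op U) s)) := by
  have h1 : ConnSh.secApp (conn K) U (appS (iso0 K).hom U s) = appS (iso1 K).hom U
      ((K.iso 1).hom.hom.app (op U) ((K.K.d 0 1).hom.app (op U) ((K.iso 0).inv.hom.app (op U)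
        (appS (iso0 K).inv U (appS (iso0 K).hom U s))))) := rfl
  rw [h1, appS_hom_inv]
  exact congrArg (fun s : Sec (K.term 0) U => (K.iso 1).hom.hom.app (op U)
    ((K.K.d 0 1).hom.app (op U) ((K.iso 0).inv.hom.app (op U) s))) (appS_hom_inv (iso0 K) U s)

theorem loc1_conn (U : X.affineOpens) (e : Sec (OO X) U.1) :
    ((lo K 1 U).trans (lidE U.1 _).symm) (appS (iso1 K).inv U.1 (ConnSh.secApp (conn K) U.1 e)) =
      one X U.1 ⊗ₜ[Γ(X, U.1)] exteriorPower.ιMulti _ 1 ![dS δ U.1 (oE X U.1 e)] := by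
  have h1 : appS (iso1 K).inv U.1 (ConnSh.secApp (conn K) U.1 e) =
      (lo K 1 U).symm (exteriorPower.ιMulti _ 1 ![dS δ U.1 (oE X U.1 e)]) := by
    have h2 := conn_apply K U.1 (oE X U.1 e)
    have h3 : fnL X U.1 (oE X U.1 e) = e := rfl
    rw [h3] at h2
    rw [h2, iso1_inv]
  rw [h1, LinearEquiv.trans_apply, LinearEquiv.apply_symm_apply, lidE_symm]

open K913.Contr K913.LogDG in
theorem twedge_one (U : X.affineOpens) (α : Sec L U.1) (p : ℕ) (η : ↥(⋀[Γ(X, U.1)]^p (Sec L U.1))) :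
    Conn.twedge p (one X U.1 ⊗ₜ[Γ(X, U.1)] exteriorPower.ιMulti _ 1 ![α]) η =
      one X U.1 ⊗ₜ[Γ(X, U.1)] lw α p η := by
  rw [twedge_eq, exteriorPower.oneEquiv_ιMulti]
  rfl

open K913.Contr K913.LogDG in
theorem rule_aux (p : ℕ) (U : X.affineOpens) (e : Sec (OO X) U.1) (b₀ : Γ(X, U.1)) (b : Fin p → Γ(X, U.1)) :
    ((lo K (p + 1) U).trans (lidE U.1 _).symm).symm (Conn.twedge p
        (((lo K 1 U).trans (lidE U.1 _).symm) (appS (iso1 K).inv U.1 (ConnSh.secApp (conn K) U.1 e)))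
        (b₀ • exteriorPower.ιMulti _ p (fun i => dS δ U.1 (b i))) +
      e ⊗ₜ exteriorPower.ιMulti _ (p + 1) (Fin.cons (dS δ U.1 b₀) (fun i => dS δ U.1 (b i)))) =
    (lo K (p + 1) U).symm (exteriorPower.ιMulti _ (p + 1)
      (Fin.cons (dS δ U.1 (oE X U.1 e * b₀)) (fun i => dS δ U.1 (b i)))) := by
  have e1 := congrArg (fun a => Conn.twedge p a (b₀ • exteriorPower.ιMulti _ p (fun i => dS δ U.1 (b i))))
    (loc1_conn K U e)
  have e2 := e1.trans (twedge_one U (dS δ U.1 (oE X U.1 e)) p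
    (b₀ • exteriorPower.ιMulti _ p (fun i => dS δ U.1 (b i))))
  refine (map_add _ _ _).trans ?_
  refine (congrArg (fun t => ((lo K (p + 1) U).trans (lidE U.1 _).symm).symm t + ((lo K (p + 1) U).trans
    (lidE U.1 _).symm).symm (e ⊗ₜ exteriorPower.ιMulti _ (p + 1)
      (Fin.cons (dS δ U.1 b₀) (fun i => dS δ U.1 (b i))))) e2).trans ?_
  refine (congrArg₂ (· + ·) (lidE_symm_tmul K U (p + 1) _ _) (lidE_symm_tmul K U (p + 1) _ _)).trans ?_
  rw [oE_one, _root_.one_smul, ← (lo K (p + 1) U).symm.map_smul (oE X U.1 e), ← map_add]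
  refine congrArg (lo K (p + 1) U).symm ?_
  rw [dS_mul]
  exact alg_aux (dS δ U.1 (oE X U.1 e)) (dS δ U.1 b₀) (oE X U.1 e) b₀ p _

/-- **The de Rham complex as the de Rham complex of the trivial connection.** -/
noncomputable def toCx : ConnSh.Cx δ (OO X) (conn K) where
  K := K.K
  term := K.term
  iso := K.iso
  iso0 := iso0 K
  iso1 := iso1 K
  d0 := secApp_ext fun U s => (conn_d0 K U s).symm
  loc p U := (lo K p U).trans (lidE U.1 _).symm
  loc_res p U V h e ω := by
    have h1 := lidE_symm_tmul K U p e (exteriorPower.ιMulti _ p ω)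
    have h2 := lidE_symm_tmul K V p (res (OO X) h e) (exteriorPower.ιMulti _ p (fun j => res L h (ω j)))
    exact (congrArg (res (K.term p) h) h1).trans ((loc_res_aux K p h e ω).trans h2.symm)
  loc0 U e := by
    have h1 := lidE_symm_tmul K U 0 e (exteriorPower.ιMulti _ 0 ![])
    have h2 := iso0_hom K U (oE X U.1 e)
    rw [map_smul] at h2
    exact (congrArg (appS (iso0 K).hom U.1) h1).trans h2
  loc1 U e ω := by
    have h1 := lidE_symm_tmul K U 1 e (exteriorPower.ιMulti _ 1 ![ω])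
    exact (congrArg (appS (iso1 K).hom U.1) h1).trans (loc1_aux K U e ω)
  rule p U e b₀ b := by
    have h1 := lidE_symm_tmul K U p e (b₀ • exteriorPower.ιMulti _ p (fun i => dS δ U.1 (b i)))
    have h2 : oE X U.1 e • (lo K p U).symm (b₀ • exteriorPower.ιMulti _ p (fun i => dS δ U.1 (b i))) =
        (lo K p U).symm ((oE X U.1 e * b₀) • exteriorPower.ιMulti _ p (fun i => dS δ U.1 (b i))) := by
      rw [← map_smul, smul_smul]
    have h3 := K.rule p U (oE X U.1 e * b₀) b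
    have h4 := rule_aux K p U e b₀ b
    refine (congrArg (fun s => (K.K.d p (p + 1)).hom.app (op U.1) ((K.iso p).inv.hom.app (op U.1) s))
      (h1.trans h2)).trans (h3.trans ?_)
    exact (congrArg ((K.iso (p + 1)).inv.hom.app (op U.1)) h4).symm

end cx

end K922.OfDR
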