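import Groth.Agent.LogNCD.K913.Chain

/-!
# Negative twists of a module with logarithmic differential

`shift L α`: the differential `D x - α ∧ x`, for a closed one-form `α` (an additive combination of the family
`ω`).
-/

set_option autoImplicit false

open TensorProduct

universe u w

namespace K922.Shift

open K913.Contr K913.LogDG K913.LogDG.Str

variable {B N M : Type u} [CommRing B] [AddCommGroup N] [Module B N]
    [AddCommGroup M] [Module B M] {δ : B → N} {κ : Type w} {ω : κ → N} (L : Str M δ ω)

theorem lwP_lwP_self (α : N) (p : ℕ) (x : M ⊗[B] ↥(⋀[B]^p N)) : lwP M α (p + 1) (lwP M α p x) = 0 := by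
  induction x using TensorProduct.induction_on with
  | zero => simp
  | tmul m η => rw [lwP_tmul, lwP_tmul, lw_lw_self, tmul_zero]
  | add x y hx hy => rw [map_add, map_add, hx, hy, add_zero]

theorem twedge_lw (α : N) (p : ℕ) (a : M ⊗[B] ↥(⋀[B]^1 N)) (η : ↥(⋀[B]^p N)) :
    Conn.twedge (p + 1) a (lw α p η) = - lwP M α (p + 1) (Conn.twedge p a η) := by
  induction a using TensorProduct.induction_on with
  | zero => simp
  | tmul m a => rw [twedge_eq, twedge_eq, lwP_tmul, lw_lw_swap, tmul_neg]
  | add x y hx hy =>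
    simp only [map_add, LinearMap.add_apply, hx, hy, neg_add]

theorem lwP_zero (p : ℕ) (x : M ⊗[B] ↥(⋀[B]^p N)) : lwP M (0 : N) p x = 0 := by
  rw [lwP, lw_zero, LinearMap.lTensor_zero]
  rfl

variable (hspan : Submodule.span B (Set.range ω) = ⊤)

include hspan in
theorem D_lwP_ω (k : κ) (p : ℕ) (x : M ⊗[B] ↥(⋀[B]^p N)) :
    L.D (p + 1) (lwP M (ω k) p x) = - lwP M (ω k) (p + 1) (L.D p x) := by
  refine induction_tmul (ω := ω) hspan p (fun x => L.D (p + 1) (lwP M (ω k) p x) =
    - lwP M (ω k) (p + 1) (L.D p x)) (by simp) ?_ ?_ x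
  · intro x y hx hy
    simp only [map_add, hx, hy, neg_add]
  · intro m i
    rw [lwP_tmul, L.closed, L.closed_of_mem_S (p + 1) m _ (lw_mem_S k p _ (AddSubgroup.subset_closure ⟨i, rfl⟩)),
      twedge_lw]

include hspan in
/-- Closedness of combinations of the family. -/
theorem D_lwP (α : N) (hα : α ∈ AddSubgroup.closure (Set.range ω)) (p : ℕ) (x : M ⊗[B] ↥(⋀[B]^p N)) :
    L.D (p + 1) (lwP M α p x) = - lwP M α (p + 1) (L.D p x) := by
  induction hα using AddSubgroup.closure_induction with
  | mem α hα =>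
    obtain ⟨k, rfl⟩ := hα
    exact D_lwP_ω L hspan k p x
  | zero => rw [lwP_zero, lwP_zero, map_zero, neg_zero]
  | add α β _ _ hα hβ =>
    rw [lwP_add, lwP_add, LinearMap.add_apply, LinearMap.add_apply, map_add, hα, hβ, neg_add]
  | neg α _ hα =>
    have h1 : ∀ q, lwP (B := B) M (-α) q = - lwP M α q := by
      intro q
      rw [← neg_one_smul B α, lwP_smul]
      exact neg_one_smul B (lwP M α q)
    rw [h1, h1, LinearMap.neg_apply, LinearMap.neg_apply, map_neg, hα]

/-- The negative twist. -/
noncomputable def shift (α : N) (hα : α ∈ AddSubgroup.closure (Set.range ω)) : Str M δ ω where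
  D p := L.D p - (lwP M α p).toAddMonoidHom
  DD p x := by
    simp only [AddMonoidHom.sub_apply, LinearMap.toAddMonoidHom_coe, map_sub, L.DD, lwP_lwP_self,
      D_lwP L hspan α hα]
    abel
  leib p b x := by
    simp only [AddMonoidHom.sub_apply, L.leib]
    simp only [LinearMap.toAddMonoidHom_coe, map_smul, smul_sub]
    abel
  na m := L.na m - m ⊗ₜ (exteriorPower.oneEquiv B N).symm α
  closed p m i := by
    rw [AddMonoidHom.sub_apply, L.closed, map_sub, LinearMap.sub_apply, twedge_eq,
      LinearEquiv.apply_symm_apply]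
    rfl

theorem shift_D_apply (α : N) (hα : α ∈ AddSubgroup.closure (Set.range ω)) (p : ℕ)
    (x : M ⊗[B] ↥(⋀[B]^p N)) : (shift L hspan α hα).D p x = L.D p x - lwP M α p x := rfl

theorem ev_shift_na (θ : Module.Dual B N) (α : N) (hα : α ∈ AddSubgroup.closure (Set.range ω)) (m : M) :
    ev θ ((shift L hspan α hα).na m) = ev θ (L.na m) - θ α • m := by
  change ev θ (L.na m - m ⊗ₜ (exteriorPower.oneEquiv B N).symm α) = _
  rw [map_sub, ev_tmul, LinearEquiv.apply_symm_apply]

end K922.Shift
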