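import Groth.Agent.LogNCD.K913.ChartAcyc
import Groth.Agent.LogNCD.K922.Shift
import Groth.Agent.LogNCD.K922.OfDR

/-!
# The logarithmic de Rham complex and the complement of the divisor, over a chart
-/

set_option autoImplicit false

universe u

open CategoryTheory CategoryTheory.Limits AlgebraicGeometry Opposite TopologicalSpace
open scoped TensorProduct
open Groth.Agent.Sga67.Sec Groth.Agent.Sga67.LocBasis

namespace K922.ChartRes

open K913.Contr K913.LogDG K913.CxLoc K913.CxStr K913.TermLoc K913.Chart K913.ChartAcyc K922.DSec K922.Quot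
  K922.Tens K922.OfDR K922.Shift

variable {X S : Scheme.{u}} {f : X ⟶ S} {Ω' : X.Modules} {d : OmegaSh.Der f Ω'} {r : ℕ}
  {D : Fin r → X.IdealSheafData} {Λ : LogNCD.LogMod d D}

/-- The basis `1` of the structure sheaf. -/
theorem isLocBasis_one (U : X.Opens) : IsLocBasis (M := OO X) (fun _ : Fin 1 => one X U) := by
  intro V hV
  constructor
  · intro a b hab
    rw [comb_apply, comb_apply, Fin.sum_univ_one, Fin.sum_univ_one, res_one] at hab
    have h := congrArg (oE X V) hab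
    rw [map_smul, map_smul, oE_one, smul_eq_mul, smul_eq_mul, mul_one, mul_one] at h
    funext i
    rw [Subsingleton.elim i 0]
    exact h
  · intro s
    refine ⟨fun _ => oE X V s, ?_⟩
    rw [comb_apply, Fin.sum_univ_one, res_one]
    exact oE_smul_one V s

/-- Sections of a locally free module over a basic open, up to a power. -/
theorem exists_pow_smul {M : X.Modules} {U : X.affineOpens} {κ : Type*} [Fintype κ] {b : κ → Sec M U.1}
    (hb : IsLocBasis b) (g : Γ(X, U.1)) (s : Sec M (X.basicOpen g)) :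
    ∃ (n : ℕ) (t : Sec M U.1), res M (X.basicOpen_le g) t = (resO X (X.basicOpen_le g) g) ^ n • s := by
  obtain ⟨a, rfl⟩ := (hb _ (X.basicOpen_le g)).2 s
  have := U.2.isLocalization_basicOpen g
  obtain ⟨⟨_, n, rfl⟩, hn⟩ := IsLocalization.exist_integer_multiples_of_finite (Submonoid.powers g) a
  choose c hc using hn
  refine ⟨n, comb b le_rfl c, ?_⟩
  rw [res_comb, ← map_smul]
  congr 1
  funext i
  have h1 : resO X (X.basicOpen_le g) (c i) = resO X (X.basicOpen_le g) (g ^ n) * a i :=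
    (hc i).trans (Algebra.smul_def _ _)
  rw [h1, map_pow]
  rfl

section chart

variable {U : X.affineOpens} (C : Ch Λ U) (K : DeRhamSh.Cx f Λ.L (LogNCD.der Λ))

/-- The structure on a chart. -/
noncomputable def Lc : K913.LogDG.Str (B := Γ(X, U.1)) (N := Sec Λ.L U.1) (Sec (OO X) U.1)
    (fun b : Γ(X, U.1) => dS (LogNCD.der Λ) U.1 b) C.ω :=
  strC C (isConn K) (toCx K) (isLocBasis_one U.1)

theorem na_eq (e : Sec (OO X) U.1) : (Lc C K).na e =
    one X U.1 ⊗ₜ[Γ(X, U.1)] exteriorPower.ιMulti _ 1 ![dS (LogNCD.der Λ) U.1 (oE X U.1 e)] :=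
  loc1_conn K U e

theorem ev_na (θ : Module.Dual Γ(X, U.1) (Sec Λ.L U.1)) (e : Sec (OO X) U.1) :
    ev θ ((Lc C K).na e) = θ (dS (LogNCD.der Λ) U.1 (oE X U.1 e)) • one X U.1 := by
  rw [na_eq, ev_tmul, exteriorPower.oneEquiv_ιMulti]
  rfl

theorem θ_dS_mem (i : Fin r) (k : Fin C.n) (h : C.e i = some k) (a : Γ(X, U.1)) :
    θ C k (dS (LogNCD.der Λ) U.1 a) ∈ Ideal.span {C.g i} := by
  have h1 := res_eq_θ C i k h (dS (LogNCD.der Λ) U.1 a)
  rw [dS_der, appS_res_ι] at h1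
  rw [← C.ideal_eq i, ← cls_eq_zero_iff, cls_eq_smul_one]
  exact h1.symm

theorem dl_mem (i : Fin r) : dl C i ∈ AddSubgroup.closure (Set.range C.ω) := by
  rcases h : C.e i with _ | k
  · rw [dl_none C i h]
    exact AddSubgroup.zero_mem _
  · rw [dl_some C i k h]
    exact AddSubgroup.subset_closure ⟨k, rfl⟩

/-- The logarithmic derivative of `∏ g_i ^ ν_i`. -/
noncomputable def al (ν : Fin r → ℕ) : Sec Λ.L U.1 := ∑ i, ν i • dl C i

theorem al_mem (ν : Fin r → ℕ) : al C ν ∈ AddSubgroup.closure (Set.range C.ω) :=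
  AddSubgroup.sum_mem _ fun i _ => AddSubgroup.nsmul_mem _ (dl_mem C i) _

theorem θ_al (i : Fin r) (k : Fin C.n) (h : C.e i = some k) (ν : Fin r → ℕ) : θ C k (al C ν) = ν i := by
  rw [al, map_sum, Finset.sum_eq_single i]
  · rw [map_nsmul, θ_dl C i i k h, if_pos rfl, nsmul_one]
  · intro j _ hj
    rw [map_nsmul, θ_dl C i j k h, if_neg hj, smul_zero]
  · simp

/-- The negatively twisted structure. -/
noncomputable def Lν (ν : Fin r → ℕ) : K913.LogDG.Str (B := Γ(X, U.1)) (N := Sec Λ.L U.1) (Sec (OO X) U.1)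
    (fun b : Γ(X, U.1) => dS (LogNCD.der Λ) U.1 b) C.ω :=
  shift (Lc C K) (span_ω C) (al C ν) (al_mem C ν)

/-- The reduction modulo an equation. -/
noncomputable def pim (t : Γ(X, U.1)) : Sec (OO X) U.1 →ₗ[Γ(X, U.1)] (Γ(X, U.1) ⧸ Ideal.span {t}) :=
  (Submodule.mkQ (Ideal.span {t})) ∘ₗ (oE X U.1).toLinearMap

theorem pim_apply (t : Γ(X, U.1)) (m : Sec (OO X) U.1) : pim t m = Ideal.Quotient.mk _ (oE X U.1 m) := rfl

theorem acycMod_Lν (hchar : ∀ n : ℕ, n ≠ 0 → IsUnit (n : Γ(X, U.1))) (ν : Fin r → ℕ) :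
    (Lν C K ν).AcycMod (∏ i, C.g i ^ ν i) := by
  have hreg : ∀ i p (x : Sec (OO X) U.1 ⊗[Γ(X, U.1)] ↥(⋀[Γ(X, U.1)]^p (Sec Λ.L U.1))), C.g i • x = 0 → x = 0 :=
    fun i p x hx => PU_smul_eq_zero p (isLocBasis_one U.1) C.isLocBasis (C.g i) (C.g_mem i) x hx
  refine (Lν C K ν).acycMod_prod C.g (dl C) (dS_mul (LogNCD.der Λ) U.1) (dS_g C) hreg ν ?_
  intro i μ hμ
  rcases hi : C.e i with _ | k
  · apply K913.LogDG.Str.acycMod_of_isUnit
    rw [C.none_one i hi]
    exact isUnit_one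
  · refine (Lν C K ν).acycMod_twist_of_bijective (Mb := Γ(X, U.1) ⧸ Ideal.span {C.g i})
      (pim (C.g i)) (span_ω C) (θ C k) (θ_ω' C k) ?_ (C.g i) ?_ ?_ (dl C i) (dS_g C i)
      ((-(ν i : Γ(X, U.1))) • LinearMap.id) ?_ _ _ _ _ (μ i) ?_ ?_
    · exact (Submodule.mkQ_surjective _).comp (oE X U.1).surjective
    · intro m hm
      rw [pim_apply, Ideal.Quotient.eq_zero_iff_mem, Ideal.mem_span_singleton'] at hm
      obtain ⟨c, hc⟩ := hm
      refine ⟨(oE X U.1).symm c, ?_⟩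
      apply (oE X U.1).injective
      rw [map_smul, LinearEquiv.apply_symm_apply, smul_eq_mul, mul_comm, hc]
    · intro m
      rw [pim_apply, Ideal.Quotient.eq_zero_iff_mem, map_smul, smul_eq_mul]
      exact Ideal.mul_mem_right _ _ (Ideal.mem_span_singleton_self _)
    · intro m
      have h1 : ev (θ C k) ((Lν C K ν).na m) = θ C k (dS (LogNCD.der Λ) U.1 (oE X U.1 m)) • one X U.1 -
          θ C k (al C ν) • m := by
        rw [← ev_na C K (θ C k) m]
        exact ev_shift_na (Lc C K) (span_ω C) (θ C k) (al C ν) (al_mem C ν) m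
      have h2 : pim (C.g i) (θ C k (dS (LogNCD.der Λ) U.1 (oE X U.1 m)) • one X U.1) = 0 := by
        rw [pim_apply, Ideal.Quotient.eq_zero_iff_mem, map_smul, oE_one, smul_eq_mul, mul_one]
        exact θ_dS_mem C i k hi _
      have h3 : pim (C.g i) (ev (θ C k) ((Lν C K ν).na m)) = - ((ν i : Γ(X, U.1)) • pim (C.g i) m) := by
        refine (congrArg (pim (C.g i)) h1).trans ?_
        refine (map_sub _ _ _).trans ?_
        rw [h2, zero_sub, θ_al C i k hi ν]
        exact congrArg Neg.neg ((pim (C.g i)).map_smul _ _)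
      rw [h3]
      exact neg_smul (ν i : Γ(X, U.1)) (pim (C.g i) m)
    · exact θ_al C i k hi μ
    · obtain ⟨m, hm⟩ : ∃ m : ℕ, ν i = μ i + (m + 1) := ⟨ν i - μ i - 1, by omega⟩
      obtain ⟨v, hv⟩ := hchar (m + 1) (Nat.succ_ne_zero m)
      have h4 : ((-(ν i : Γ(X, U.1))) • LinearMap.id + μ i • LinearMap.id :
          (Γ(X, U.1) ⧸ Ideal.span {C.g i}) →ₗ[Γ(X, U.1)] (Γ(X, U.1) ⧸ Ideal.span {C.g i})) =
          (-(v : Γ(X, U.1))) • LinearMap.id := by
        rw [← Nat.cast_smul_eq_nsmul Γ(X, U.1) (μ i), ← add_smul, hv, hm]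
        congr 1
        push_cast
        ring
      have h5 : Function.Bijective ((-(v : Γ(X, U.1))) • (LinearMap.id :
          (Γ(X, U.1) ⧸ Ideal.span {C.g i}) →ₗ[Γ(X, U.1)] (Γ(X, U.1) ⧸ Ideal.span {C.g i}))) := by
        refine Function.bijective_iff_has_inverse.2 ⟨fun x => (-(v⁻¹ : Γ(X, U.1)ˣ) : Γ(X, U.1)) • x, ?_, ?_⟩
        · intro x
          simp only [LinearMap.smul_apply, LinearMap.id_apply, smul_smul, neg_mul_neg, Units.inv_mul, one_smul]
        · intro x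
          simp only [LinearMap.smul_apply, LinearMap.id_apply, smul_smul, neg_mul_neg, Units.mul_inv, one_smul]
      rw [h4]
      exact h5

theorem exists_rP (p : ℕ) (x : PU (OO X) Λ.L p (V C)) : ∃ (n : ℕ) (x' : PU (OO X) Λ.L p U),
    rP (toCx K) p (V_le C) x' = (resO X (V_le C) (G C)) ^ n • x := by
  have hb := isLocBasis_term (toCx K) p (isLocBasis_one U.1) C.isLocBasis
  obtain ⟨n, t, ht⟩ := exists_pow_smul hb (G C) ((K913.CxLoc.lo (toCx K) p (V C)).symm x)
  have ht' : res ((toCx K).term p) (V_le C) t =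
    (resO X (V_le C) (G C)) ^ n • (K913.CxLoc.lo (toCx K) p (V C)).symm x := ht
  refine ⟨n, K913.CxLoc.lo (toCx K) p U t, ?_⟩
  rw [rP_apply, LinearEquiv.symm_apply_apply]
  refine (congrArg (K913.CxLoc.lo (toCx K) p (V C)) ht').trans ?_
  refine (map_smul _ _ _).trans ?_
  exact congrArg (((resO X (V_le C) (G C)) ^ n) • ·) (LinearEquiv.apply_symm_apply _ _)

theorem prod_pow_eq (n : ℕ) : ∏ i, C.g i ^ n = G C ^ n := Finset.prod_pow _ _ _

/-- the restriction of the equation to the complement -/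
noncomputable def uu (n : ℕ) : Γ(X, (V C).1) := resO X (V_le C) (G C) ^ n

theorem isUnit_uu (n : ℕ) : IsUnit (uu C n) := by
  have h : IsUnit (resO X (V_le C) (G C)) := RingedSpace.isUnit_res_basicOpen X.toRingedSpace (G C)
  exact h.pow n

theorem resO_prod (n : ℕ) : resO X (V_le C) (∏ i, C.g i ^ n) = uu C n := by
  rw [prod_pow_eq, map_pow]
  rfl

theorem dS_prod (n : ℕ) : dS (LogNCD.der Λ) U.1 (∏ i, C.g i ^ n) = (∏ i, C.g i ^ n) • al C (fun _ => n) :=
  K913.LogDG.Str.delta_prod (B := Γ(X, U.1)) (N := Sec Λ.L U.1) (δ := fun b => dS (LogNCD.der Λ) U.1 b)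
    C.g (dl C) (dS_mul (LogNCD.der Λ) U.1) (dS_g C) (fun _ => n)

theorem dS_uu (n : ℕ) : dS (LogNCD.der Λ) (V C).1 (uu C n) = uu C n • res Λ.L (V_le C) (al C (fun _ => n)) := by
  rw [← resO_prod, ← dS_res, dS_prod, res_smul]

theorem D_uu (n p : ℕ) (x : PU (OO X) Λ.L p (V C)) :
    K913.CxLoc.D (toCx K) p (V C) (uu C n • x) = uu C n • K913.CxLoc.D (toCx K) p (V C) x +
      lwP (Sec (OO X) (V C).1) (res Λ.L (V_le C) (al C (fun _ => n))) p (uu C n • x) := by
  rw [D_smul_gen (toCx K) (isConn K) (gen_V C), dS_uu, lwP_smul, LinearMap.smul_apply, map_smul]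

theorem rP_inj (p : ℕ) : Function.Injective (rP (toCx K) p (V_le C)) :=
  rP_injective (toCx K) p (V_le C) (isLocBasis_one U.1) C.isLocBasis (resO_injective C)

theorem D_x' (n p : ℕ) (x : PU (OO X) Λ.L p (V C)) (x' : PU (OO X) Λ.L p U)
    (hx' : rP (toCx K) p (V_le C) x' = uu C n • x) (y : PU (OO X) Λ.L (p + 1) U)
    (h : K913.CxLoc.D (toCx K) p (V C) x = rP (toCx K) (p + 1) (V_le C) y) :
    (Lν C K (fun _ => n)).D p x' = (∏ i, C.g i ^ n) • y := by
  have h1 : (Lν C K (fun _ => n)).D p x' =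
    K913.CxLoc.D (toCx K) p U x' - lwP (Sec (OO X) U.1) (al C (fun _ => n)) p x' := rfl
  rw [h1]
  apply rP_inj C K
  rw [map_sub, rP_D, rP_lwP, hx', D_uu, add_sub_cancel_right, h, rP_smul, resO_prod]

theorem cancel (n p : ℕ) (x y : PU (OO X) Λ.L p (V C)) (h : uu C n • x = uu C n • y) : x = y :=
  (isUnit_uu C n).smul_left_cancel.1 h

theorem exists_w (n q : ℕ) (v : PU (OO X) Λ.L q U) : ∃ w : PU (OO X) Λ.L q (V C),
    rP (toCx K) (q + 1) (V_le C) ((Lν C K (fun _ => n)).D q v) =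
      uu C n • K913.CxLoc.D (toCx K) q (V C) w := by
  obtain ⟨c, hc⟩ := (isUnit_uu C n).exists_right_inv
  refine ⟨c • rP (toCx K) q (V_le C) v, ?_⟩
  have h1 : (Lν C K (fun _ => n)).D q v =
    K913.CxLoc.D (toCx K) q U v - lwP (Sec (OO X) U.1) (al C (fun _ => n)) q v := rfl
  have h2 : uu C n • (c • rP (toCx K) q (V_le C) v) = rP (toCx K) q (V_le C) v := by
    rw [smul_smul, hc, _root_.one_smul]
  have h3 := D_uu C K n q (c • rP (toCx K) q (V_le C) v)
  rw [h2] at h3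
  rw [h1, map_sub, rP_D, rP_lwP, h3, add_sub_cancel_right]

/-- Extension of closed forms from the complement, in degree zero. -/
theorem exists_ext_zero (hchar : ∀ n : ℕ, n ≠ 0 → IsUnit (n : Γ(X, U.1))) (x : PU (OO X) Λ.L 0 (V C))
    (y : PU (OO X) Λ.L 1 U) (h : K913.CxLoc.D (toCx K) 0 (V C) x = rP (toCx K) 1 (V_le C) y) :
    ∃ z : PU (OO X) Λ.L 0 U, x = rP (toCx K) 0 (V_le C) z := by
  obtain ⟨n, x', hx'⟩ := exists_rP C K 0 x
  have h1 := D_x' C K n 0 x x' hx' y h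
  obtain ⟨z, rfl⟩ := (acycMod_Lν C K hchar (fun _ => n)).1 x' y h1
  refine ⟨z, ?_⟩
  rw [rP_smul, resO_prod] at hx'
  exact (cancel C n 0 _ _ hx').symm

/-- Extension of forms from the complement. -/
theorem exists_ext_succ (hchar : ∀ n : ℕ, n ≠ 0 → IsUnit (n : Γ(X, U.1))) (q : ℕ)
    (x : PU (OO X) Λ.L (q + 1) (V C)) (y : PU (OO X) Λ.L (q + 2) U)
    (h : K913.CxLoc.D (toCx K) (q + 1) (V C) x = rP (toCx K) (q + 2) (V_le C) y) :
    ∃ (w : PU (OO X) Λ.L q (V C)) (z : PU (OO X) Λ.L (q + 1) U),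
      x = K913.CxLoc.D (toCx K) q (V C) w + rP (toCx K) (q + 1) (V_le C) z := by
  obtain ⟨n, x', hx'⟩ := exists_rP C K (q + 1) x
  have h1 := D_x' C K n (q + 1) x x' hx' y h
  obtain ⟨v, z, rfl⟩ := (acycMod_Lν C K hchar (fun _ => n)).2 q x' y h1
  obtain ⟨w, hw⟩ := exists_w C K n q v
  refine ⟨w, z, ?_⟩
  rw [map_add, hw, rP_smul, resO_prod, ← smul_add] at hx'
  exact (cancel C n (q + 1) _ _ hx').symm

end chart

end K922.ChartRes
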