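import Groth.Agent.LogNCD.K922.OpenRes
import Mathlib.Algebra.Homology.Embedding.Extend

/-!
# The elementwise criterion for a complex extended by zero from `ℕ` to `ℤ`
-/

set_option autoImplicit false

universe u

open CategoryTheory CategoryTheory.Limits Opposite TopologicalSpace

namespace K922.ExtRes

open K922.OpenRes

variable {X : TopCat.{u}}

/-- An isomorphism on sections. -/
def sI {A B : CohTop.Ab X} (e : A ≅ B) (V : Opens X) : A.obj.obj (op V) ≃+ B.obj.obj (op V) where
  toFun x := e.hom.hom.app (op V) x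
  invFun x := e.inv.hom.app (op V) x
  left_inv x := by
    have := congrArg (fun ψ => ψ.hom.app (op V)) e.hom_inv_id
    exact ConcreteCategory.congr_hom this x
  right_inv x := by
    have := congrArg (fun ψ => ψ.hom.app (op V)) e.inv_hom_id
    exact ConcreteCategory.congr_hom this x
  map_add' x y := map_add (e.hom.hom.app (op V)).hom x y

theorem sI_apply {A B : CohTop.Ab X} (e : A ≅ B) (V : Opens X) (x : A.obj.obj (op V)) :
    sI e V x = e.hom.hom.app (op V) x := rfl

theorem sI_map {A B : CohTop.Ab X} (e : A ≅ B) {V W : Opens X} (h : W ≤ V) (x : A.obj.obj (op V)) :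
    sI e W (A.obj.map (homOfLE h).op x) = B.obj.map (homOfLE h).op (sI e V x) :=
  ConcreteCategory.congr_hom (e.hom.hom.naturality (homOfLE h).op) x

variable (KN : CochainComplex (CohTop.Ab X) ℕ)

/-- The extension. -/
noncomputable abbrev KZ : CochainComplex (CohTop.Ab X) ℤ := KN.extend ComplexShape.embeddingUpNat

/-- The terms. -/
noncomputable def ei (n : ℕ) (q : ℤ) (h : (n : ℤ) = q) : (KZ KN).X q ≅ KN.X n :=
  KN.extendXIso ComplexShape.embeddingUpNat h

theorem kd_ei (n m : ℕ) (q r : ℤ) (hq : (n : ℤ) = q) (hr : (m : ℤ) = r) (V : Opens X) (x : KS (KZ KN) q V) :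
    sI (ei KN m r hr) V (kd (KZ KN) q r V x) = (KN.d n m).hom.app (op V) (sI (ei KN n q hq) V x) := by
  have h := KN.extend_d_eq ComplexShape.embeddingUpNat (i' := q) (j' := r) hq hr
  have h1 : (KZ KN).d q r ≫ (ei KN m r hr).hom = (ei KN n q hq).hom ≫ KN.d n m := by
    rw [h]
    simp only [Category.assoc]
    erw [Iso.inv_hom_id]
    rw [Category.comp_id]
    rfl
  have h2 := congrArg (fun ψ => ψ.hom.app (op V)) h1
  exact ConcreteCategory.congr_hom h2 x

theorem isZero_neg (q : ℤ) (h : q < 0) : IsZero ((KZ KN).X q) := by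
  apply KN.isZero_extend_X
  intro i hi
  have : (i : ℤ) = q := hi
  omega

theorem eq_zero_of_isZero {A : CohTop.Ab X} (hA : IsZero A) (V : Opens X) (x : A.obj.obj (op V)) : x = 0 := by
  have h : 𝟙 A = 0 := hA.eq_of_src _ _
  have h1 := congrArg (fun ψ => ψ.hom.app (op V)) h
  exact ConcreteCategory.congr_hom h1 x

variable {V W : Opens X} (h : W ≤ V)
  (inj : ∀ n, Function.Injective ((KN.X n).obj.map (homOfLE h).op))

include inj in
theorem kr_injective (q : ℤ) : Function.Injective (kr (KZ KN) q h) := by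
  intro x y hxy
  rcases lt_or_ge q 0 with hq | hq
  · rw [eq_zero_of_isZero (isZero_neg KN q hq) V x, eq_zero_of_isZero (isZero_neg KN q hq) V y]
  · obtain ⟨n, hn⟩ : ∃ n : ℕ, (n : ℤ) = q := ⟨q.toNat, Int.toNat_of_nonneg hq⟩
    apply (sI (ei KN n q hn) V).injective
    apply inj n
    have h1 := sI_map (ei KN n q hn) h x
    have h2 := sI_map (ei KN n q hn) h y
    exact h1.symm.trans ((congrArg (sI (ei KN n q hn) W) hxy).trans h2)

include inj in
theorem exRes_extend
    (h0 : ∀ (x : (KN.X 0).obj.obj (op W)) (y : (KN.X 1).obj.obj (op V)),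
      (KN.d 0 1).hom.app (op W) x = (KN.X 1).obj.map (homOfLE h).op y →
        ∃ z : (KN.X 0).obj.obj (op V), x = (KN.X 0).obj.map (homOfLE h).op z)
    (h1 : ∀ (m : ℕ) (x : (KN.X (m + 1)).obj.obj (op W)) (y : (KN.X (m + 2)).obj.obj (op V)),
      (KN.d (m + 1) (m + 2)).hom.app (op W) x = (KN.X (m + 2)).obj.map (homOfLE h).op y →
        ∃ (w : (KN.X m).obj.obj (op W)) (z : (KN.X (m + 1)).obj.obj (op V)),
          x = (KN.d m (m + 1)).hom.app (op W) w + (KN.X (m + 1)).obj.map (homOfLE h).op z) :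
    ExRes (KZ KN) h := by
  intro p q r s hpq hqr hrs a b _ hab
  -- reduce to extension of `b`
  suffices H : ∃ (x : KS (KZ KN) q V) (z : KS (KZ KN) p W), kr (KZ KN) q h x = b + kd (KZ KN) p q W z by
    obtain ⟨x, z, hxz⟩ := H
    refine ⟨x, z, ?_, hxz⟩
    apply kr_injective KN h inj r
    rw [← kd_kr, hxz, map_add, kd_kd, add_zero, hab]
  rcases lt_or_ge q 0 with hq | hq
  · refine ⟨0, 0, ?_⟩
    rw [eq_zero_of_isZero (isZero_neg KN q hq) W b, map_zero, map_zero, add_zero]
  obtain ⟨n, hn⟩ : ∃ n : ℕ, (n : ℤ) = q := ⟨q.toNat, Int.toNat_of_nonneg hq⟩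
  have hn1 : ((n + 1 : ℕ) : ℤ) = r := by push_cast; omega
  have hb : (KN.d n (n + 1)).hom.app (op W) (sI (ei KN n q hn) W b) =
      (KN.X (n + 1)).obj.map (homOfLE h).op (sI (ei KN (n + 1) r hn1) V a) := by
    rw [← kd_ei KN n (n + 1) q r hn hn1 W b, ← hab]
    exact sI_map (ei KN (n + 1) r hn1) h a
  cases n with
  | zero =>
    obtain ⟨z, hz⟩ := h0 _ _ hb
    refine ⟨(sI (ei KN 0 q hn) V).symm z, 0, ?_⟩
    rw [map_zero, add_zero]
    apply (sI (ei KN 0 q hn) W).injective
    rw [hz]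
    refine (sI_map (ei KN 0 q hn) h _).trans ?_
    rw [AddEquiv.apply_symm_apply]
  | succ m =>
    obtain ⟨w, z, hz⟩ := h1 m _ _ hb
    have hp : (m : ℤ) = p := by push_cast at hn; omega
    refine ⟨(sI (ei KN (m + 1) q hn) V).symm z, - (sI (ei KN m p hp) W).symm w, ?_⟩
    apply (sI (ei KN (m + 1) q hn) W).injective
    refine (sI_map (ei KN (m + 1) q hn) h _).trans ?_
    rw [AddEquiv.apply_symm_apply, map_add, map_neg, map_neg, kd_ei KN m (m + 1) p q hp hn,
      AddEquiv.apply_symm_apply, hz]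
    exact (add_neg_cancel_comm _ _).symm

end K922.ExtRes
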