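import Groth.Agent.LogNCD.K922.Coord

/-!
# Morphisms between modules of fractions
-/

set_option autoImplicit false

universe u

open CategoryTheory CategoryTheory.Limits AlgebraicGeometry Opposite TopologicalSpace
open scoped TensorProduct
open Groth.Agent.Sga67.Sec Groth.Agent.Sga67.LocBasis

namespace K922.Frac

open K922.Tens K922.Quot K922.Coord

variable {X : Scheme.{u}} {M N N' : X.Modules}

/-- `N` has no torsion for the function `G`, on all opens of `U`. -/
def TF (N : X.Modules) (U : X.Opens) (G : Γ(X, U)) : Prop :=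
  ∀ (V : X.Opens) (h : V ≤ U) (s : Sec N V), resO X h G • s = 0 → s = 0

theorem TF.restrict {U : X.Opens} {G : Γ(X, U)} (hG : TF N U G) {V : X.Opens} (h : V ≤ U) :
    TF N V (resO X h G) := by
  intro W hW s hs
  rw [resO_resO] at hs
  exact hG W (hW.trans h) s hs

theorem TF.mul {U : X.Opens} {G G' : Γ(X, U)} (hG : TF N U G) (hG' : TF N U G') : TF N U (G * G') := by
  intro V h s hs
  rw [map_mul, mul_smul] at hs
  exact hG' V h s (hG V h _ hs)

theorem TF.self {U : X.Opens} {G : Γ(X, U)} (hG : TF N U G) (s : Sec N U) (hs : G • s = 0) : s = 0 :=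
  hG U le_rfl s (by rw [resO_self, hs])

/-- A module with a local basis has no torsion for regular functions. -/
theorem tf_of_isLocBasis {U : X.Opens} {κ : Type*} [Fintype κ] {b : κ → Sec N U} (hb : IsLocBasis b)
    {G : Γ(X, U)} (hG : IsReg U G) : TF N U G := by
  intro V h s hs
  obtain ⟨a, rfl⟩ := (hb V h).2 s
  rw [← map_smul] at hs
  have h1 := (hb V h).1 (hs.trans (map_zero _).symm)
  have h2 : a = 0 := by
    funext k
    exact hG V h (a k) (congrFun h1 k)
  rw [h2, map_zero]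

theorem cross (ι : M ⟶ N) (ι' : M ⟶ N') [Mono ι'] {U V : X.Opens} (h : V ≤ U) {G : Γ(X, U)} {G2 : Γ(X, V)}
    (hG : TF N U G) (hG2 : TF N V G2) {s' : Sec N' U} {s : Sec N U} {ω : Sec M U}
    (hω' : appS ι' U ω = G • s') (hω : appS ι U ω = G • s) {t : Sec N V} {η : Sec M V}
    (hη' : appS ι' V η = G2 • res N' h s') (hη : appS ι V η = G2 • t) : t = res N h s := by
  rw [← sub_eq_zero]
  have htf := hG2.mul (hG.restrict h)
  apply htf.self
  have h1 : resO X h G • η = G2 • res M h ω := by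
    apply injective_of_mono ι' V
    have e1 := congrArg (res N' h) hω'
    rw [← appS_res, res_smul] at e1
    rw [map_smul, map_smul, hη', e1, smul_comm]
  have h2 := congrArg (appS ι V) h1
  have e2 := congrArg (res N h) hω
  rw [← appS_res, res_smul] at e2
  rw [map_smul, map_smul, hη, e2] at h2
  rw [smul_sub, mul_smul, mul_smul, ← h2, smul_comm, sub_self]

/-- **Morphisms between modules of fractions.**  `ι : M ⟶ N`, `ι' : M ⟶ N'` monomorphisms, and locally every section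
of `N'` becomes, after multiplication by `G` (`N` without `G`-torsion), a section of `M` which is divisible by `G` in `N`. -/
theorem exists_hom (ι : M ⟶ N) (ι' : M ⟶ N') [Mono ι']
    (H : ∀ (O : X.Opens) (x : X), x ∈ O → ∃ (U : X.Opens) (G : Γ(X, U)), x ∈ U ∧ U ≤ O ∧ TF N U G ∧
      ∀ (V : X.Opens) (h : V ≤ U) (s' : Sec N' V), ∃ (ω : Sec M V) (s : Sec N V),
        appS ι' V ω = resO X h G • s' ∧ appS ι V ω = resO X h G • s) :
    ∃ κ : N' ⟶ N, ι' ≫ κ = ι := by
  classical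
  -- good opens
  let I := {U : X.Opens // ∃ G : Γ(X, U), TF N U G ∧
      ∀ (V : X.Opens) (h : V ≤ U) (s' : Sec N' V), ∃ (ω : Sec M V) (s : Sec N V),
        appS ι' V ω = resO X h G • s' ∧ appS ι V ω = resO X h G • s}
  choose G hG₁ hG₂ using fun (i : I) => i.2
  have hB : Opens.IsBasis (Set.range fun i : I => i.1) := by
    rw [Opens.isBasis_iff_nbhd]
    intro O x hx
    obtain ⟨U, G, hxU, hUO, h1, h2⟩ := H O x hx
    exact ⟨U, ⟨⟨U, G, h1, h2⟩, rfl⟩, hxU, hUO⟩
  have hG₂' : ∀ (i : I) (s' : Sec N' i.1), ∃ (s : Sec N i.1), ∃ (ω : Sec M i.1),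
      appS ι' i.1 ω = G i • s' ∧ appS ι i.1 ω = G i • s := by
    intro i s'
    obtain ⟨ω, s, h1, h2⟩ := hG₂ i i.1 le_rfl s'
    rw [resO_self] at h1 h2
    exact ⟨s, ω, h1, h2⟩
  choose φ ω hω' hω using hG₂'
  -- uniqueness
  have huniq : ∀ (i : I) (s' : Sec N' i.1) (s : Sec N i.1) (η : Sec M i.1),
      appS ι' i.1 η = G i • s' → appS ι i.1 η = G i • s → φ i s' = s := by
    intro i s' s η h1 h2
    have h3 : η = ω i s' := injective_of_mono ι' i.1 (h1.trans (hω' i s').symm)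
    rw [← sub_eq_zero]
    apply (hG₁ i).self
    rw [smul_sub, ← hω, ← h2, h3, sub_self]
  have hadd : ∀ (i : I) (s t : Sec N' i.1), φ i (s + t) = φ i s + φ i t := by
    intro i s t
    refine huniq i _ _ (ω i s + ω i t) ?_ ?_
    · exact ((appS ι' i.1).map_add _ _).trans ((congrArg₂ _ (hω' i s) (hω' i t)).trans (smul_add _ _ _).symm)
    · exact ((appS ι i.1).map_add _ _).trans ((congrArg₂ _ (hω i s) (hω i t)).trans (smul_add _ _ _).symm)
  have hsmul : ∀ (i : I) (a : Γ(X, i.1)) (s : Sec N' i.1), φ i (a • s) = a • φ i s := by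
    intro i a s
    refine huniq i _ _ (a • ω i s) ?_ ?_
    · exact ((appS ι' i.1).map_smul _ _).trans ((congrArg _ (hω' i s)).trans (smul_comm _ _ _))
    · exact ((appS ι i.1).map_smul _ _).trans ((congrArg _ (hω i s)).trans (smul_comm _ _ _))
  let φl : ∀ i : I, Sec N' i.1 →ₗ[Γ(X, i.1)] Sec N i.1 := fun i =>
    { toFun := φ i
      map_add' := hadd i
      map_smul' := hsmul i }
  have hcompat : ∀ (i j : I) (h : j.1 ≤ i.1) (s' : Sec N' i.1), φ j (res N' h s') = res N h (φ i s') :=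
    fun i j h s' => cross ι ι' h (hG₁ i) (hG₁ j) (hω' i s') (hω i s') (hω' j _) (hω j _)
  obtain ⟨κ, hκ⟩ := exists_hom_of_basis' hB N' N φl hcompat
  refine ⟨κ, ?_⟩
  apply hom_ext_of_locally
  intro x O hx
  obtain ⟨_, ⟨i, rfl⟩, hxV, hV⟩ := Opens.isBasis_iff_nbhd.mp hB hx
  refine ⟨i.1, hV, hxV, fun s => ?_⟩
  have h1 := hκ i (appS ι' i.1 s)
  exact (appS_comp ι' κ i.1 s).trans (h1.trans (huniq i _ _ (G i • s) ((appS ι' i.1).map_smul _ _)
    ((appS ι i.1).map_smul _ _)))

/-- Two morphisms which agree on `M` agree. -/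
theorem hom_ext_frac {K : X.Modules} (ι' : M ⟶ N') {κ κ' : N' ⟶ K} (h : ι' ≫ κ = ι' ≫ κ')
    (H : ∀ (O : X.Opens) (x : X), x ∈ O → ∃ (U : X.Opens) (G : Γ(X, U)), x ∈ U ∧ U ≤ O ∧ TF K U G ∧
      ∀ (s' : Sec N' U), ∃ (ω : Sec M U), appS ι' U ω = G • s') : κ = κ' := by
  apply hom_ext_of_locally
  intro x O hx
  obtain ⟨U, G, hxU, hUO, h1, h2⟩ := H O x hx
  refine ⟨U, hUO, hxU, fun s => ?_⟩
  obtain ⟨ω, hω⟩ := h2 s
  rw [← sub_eq_zero]
  apply h1.self
  rw [smul_sub, ← map_smul, ← map_smul, ← hω, ← appS_comp, ← appS_comp, h, sub_self]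

end K922.Frac
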