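import Groth.Agent.LogNCD.K922.LogSeq
import Groth.Agent.LogNCD.K922.Frac

/-!
# Log modules of subfamilies
-/

set_option autoImplicit false

universe u

open CategoryTheory CategoryTheory.Limits AlgebraicGeometry Opposite TopologicalSpace
open scoped TensorProduct
open Groth.Agent.Sga67.Sec Groth.Agent.Sga67.LocBasis

namespace K922.SubLog

open K922.Tens K922.Quot K922.DSec K922.Coord K922.Chart K922.LogBasis K922.LogSeq K922.Frac

variable {X S : Scheme.{u}} {f : X ⟶ S} {Ω' : X.Modules} {d : OmegaSh.Der f Ω'} {r r' : ℕ}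
  {D : Fin r → X.IdealSheafData} {D' : Fin r' → X.IdealSheafData} {φ : Fin r' → Fin r} {n : ℕ}

/-- The chart of a subfamily. -/
noncomputable def subChart {U : X.Opens} (c : Chart f D U n) (hφ : Function.Injective φ) (hD' : ∀ i, D' i = D (φ i)) :
    Chart f D' U n where
  v := c.v
  e i := c.e (φ i)
  g i := c.g (φ i)
  coord := c.coord
  inj i j k hi hj := hφ (c.inj _ _ k hi hj)
  g_none i := c.g_none (φ i)
  g_some i k := c.g_some (φ i) k
  ideal i V h := by rw [hD' i]; exact c.ideal (φ i) V h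

theorem exists_smul_mem {Λ : LogNCD.LogMod d D} {Λ' : LogNCD.LogMod d D'} {U : X.Opens} {c : Chart f D U n}
    (hφ : Function.Injective φ) (hD' : ∀ i, D' i = D (φ i)) (B : LogBasis Λ c)
    (B' : LogBasis Λ' (subChart c hφ hD')) {V : X.Opens} (h : V ≤ U) (s' : Sec Λ'.L V) :
    ∃ (ω : Sec Ω' V) (s : Sec Λ.L V), appS Λ'.ι V ω = resO X h (∏ i, c.g i) • s' ∧
      appS Λ.ι V ω = resO X h (∏ i, c.g i) • s := by
  classical
  have key : ∀ k, ∃ (η : Sec Ω' U) (t : Sec Λ.L U), appS Λ'.ι U η = (∏ i, c.g i) • B'.b k ∧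
      appS Λ.ι U η = (∏ i, c.g i) • t := by
    intro k
    by_cases hk : ∃ i, c.e (φ i) = some k
    · obtain ⟨i, hi⟩ := hk
      refine ⟨(∏ j ∈ Finset.univ.erase (φ i), c.g j) • dS d U (c.g (φ i)), B.b k, ?_, ?_⟩
      · have h1 := B'.smul_b i k hi
        change c.g (φ i) • B'.b k = appS Λ'.ι U (dS d U (c.g (φ i))) at h1
        rw [map_smul, ← h1, smul_smul, Finset.prod_erase_mul _ _ (Finset.mem_univ _)]
      · rw [map_smul, ← B.smul_b (φ i) k hi, smul_smul, Finset.prod_erase_mul _ _ (Finset.mem_univ _)]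
    · refine ⟨(∏ i, c.g i) • dS d U (c.v k), appS Λ.ι U (dS d U (c.v k)), ?_, ?_⟩
      · have h1 := B'.b_none k (fun i hi => hk ⟨i, hi⟩)
        change B'.b k = appS Λ'.ι U (dS d U (c.v k)) at h1
        rw [map_smul, h1]
      · rw [map_smul]
  choose η t hη ht using key
  obtain ⟨a, rfl⟩ := (B'.isLocBasis V h).2 s'
  refine ⟨∑ k, a k • res Ω' h (η k), ∑ k, a k • res Λ.L h (t k), ?_, ?_⟩
  · rw [map_sum, comb_apply, Finset.smul_sum]
    refine Finset.sum_congr rfl fun k _ => ?_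
    rw [map_smul, appS_res, hη, res_smul, smul_comm]
  · rw [map_sum, Finset.smul_sum]
    refine Finset.sum_congr rfl fun k _ => ?_
    rw [map_smul, appS_res, ht, res_smul, smul_comm]

/-- **Existence of the inclusion of log modules of a subfamily.** -/
theorem exists_isSubLog [Smooth f] (hd : AffUniv d) (hD : LogNCD.IsNCD D f) (hφ : Function.Injective φ)
    (hD' : ∀ i, D' i = D (φ i)) (Λ : LogNCD.LogMod d D) (Λ' : LogNCD.LogMod d D') :
    ∃ κ : Λ'.L ⟶ Λ.L, Λ'.ι ≫ κ = Λ.ι := by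
  have := Λ'.mono
  apply exists_hom
  intro O x hx
  obtain ⟨U, n, c, B, hxU, hU⟩ := exists_logChart hd hD Λ hx
  obtain ⟨B'⟩ := exists_logBasis hd Λ' (subChart c hφ hD')
  exact ⟨U.1, ∏ i, c.g i, hxU, hU, fun V h s hs => eq_zero_of_prod_smul Λ c h s hs,
    fun V h s' => exists_smul_mem hφ hD' B B' h s'⟩

theorem hom_ext_log [Smooth f] (hd : AffUniv d) (hD : LogNCD.IsNCD D f) (Λ : LogNCD.LogMod d D)
    {K : X.Modules} {κ κ' : Λ.L ⟶ K} (h : Λ.ι ≫ κ = Λ.ι ≫ κ')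
    (H : ∀ (U : X.affineOpens) (n : ℕ) (c : Chart f D U.1 n), TF K U.1 (∏ i, c.g i)) : κ = κ' := by
  apply hom_ext_frac Λ.ι h
  intro O x hx
  obtain ⟨U, n, c, B, hxU, hU⟩ := exists_logChart hd hD Λ hx
  refine ⟨U.1, ∏ i, c.g i, hxU, hU, H U n c, fun s' => ?_⟩
  have hφ : Function.Injective (id : Fin r → Fin r) := Function.injective_id
  obtain ⟨B'⟩ := exists_logBasis hd Λ (subChart c hφ (fun i => rfl))
  obtain ⟨ω, -, h1, -⟩ := exists_smul_mem hφ (fun i => rfl) B B' le_rfl s'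
  refine ⟨ω, ?_⟩
  rwa [resO_self] at h1

/-- **Uniqueness of the log module.** -/
theorem exists_iso [Smooth f] (hd : AffUniv d) (hD : LogNCD.IsNCD D f) (Λ Λ' : LogNCD.LogMod d D) :
    ∃ e : Λ.L ≅ Λ'.L, Λ.ι ≫ e.hom = Λ'.ι ∧ ∀ i, e.hom ≫ Λ'.res i = Λ.res i := by
  have hφ : Function.Injective (id : Fin r → Fin r) := Function.injective_id
  obtain ⟨κ, hκ⟩ := exists_isSubLog hd hD hφ (fun i => rfl) Λ' Λ
  obtain ⟨κ', hκ'⟩ := exists_isSubLog hd hD hφ (fun i => rfl) Λ Λ'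
  have htf : ∀ (Λ : LogNCD.LogMod d D) (U : X.affineOpens) (n : ℕ) (c : Chart f D U.1 n),
      TF Λ.L U.1 (∏ i, c.g i) := fun Λ U n c V h s hs => eq_zero_of_prod_smul Λ c h s hs
  have h1 : κ ≫ κ' = 𝟙 _ := by
    apply hom_ext_log hd hD Λ _ (htf Λ)
    rw [← Category.assoc, hκ, hκ', Category.comp_id]
  have h2 : κ' ≫ κ = 𝟙 _ := by
    apply hom_ext_log hd hD Λ' _ (htf Λ')
    rw [← Category.assoc, hκ', hκ, Category.comp_id]
  refine ⟨⟨κ, κ', h1, h2⟩, hκ, fun i => ?_⟩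
  apply hom_ext_of_locally
  intro x O hx
  obtain ⟨U, n, c, B, hxU, hU⟩ := exists_logChart hd hD Λ hx
  obtain ⟨B'⟩ := exists_logBasis hd Λ' c
  refine ⟨U.1, hU, hxU, fun s => ?_⟩
  have hb : ∀ k, appS κ U.1 (B.b k) = B'.b k := by
    intro k
    by_cases hk : ∃ i, c.e i = some k
    · obtain ⟨i, hi⟩ := hk
      rw [← sub_eq_zero]
      have htf' := tf_of_isLocBasis B'.isLocBasis (c.isReg_g i)
      apply htf'.self
      rw [smul_sub, ← map_smul, B.smul_b i k hi, B'.smul_b i k hi, ← appS_comp, hκ, sub_self]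
    · rw [B.b_none k (fun i hi => hk ⟨i, hi⟩), B'.b_none k (fun i hi => hk ⟨i, hi⟩), ← appS_comp, hκ]
  obtain ⟨a, rfl⟩ := (B.isLocBasis U.1 le_rfl).2 s
  rw [comb_apply, map_sum, map_sum]
  refine Finset.sum_congr rfl fun k _ => ?_
  rw [map_smul, map_smul, res_self, appS_comp]
  refine congrArg _ ?_
  refine (congrArg _ (hb k)).trans ?_
  by_cases hk : c.e i = some k
  · rw [B.res_b i k hk, B'.res_b i k hk]
  · rw [B.res_b_ne i k hk, B'.res_b_ne i k hk]

end K922.SubLog
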