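import Groth.Agent.LogNCD.K922.JStar
import Groth.Agent.LogNCD.K922.SubLog
import Groth.Agent.Ega1.SubSheaf

/-!
# Existence of the log module: preparations
-/

set_option autoImplicit false

universe u

open CategoryTheory CategoryTheory.Limits AlgebraicGeometry Opposite TopologicalSpace
open scoped TensorProduct
open Groth.Agent.Sga67.Sec Groth.Agent.Sga67.LocBasis

namespace K922.LogExist

open K922.Tens K922.Quot K922.DSec K922.Coord K922.Chart K922.LogBasis K922.Frac K922.JStar

section General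

variable {X : Scheme.{u}}

/-- The subsheaf defined by a local family of submodules. -/
theorem exists_sub (J : X.Modules) (P : ∀ V : X.Opens, Submodule Γ(X, V) (Sec J V))
    (hres : ∀ {U V : X.Opens} (h : V ≤ U) (s : Sec J U), s ∈ P U → res J h s ∈ P V)
    (hloc : ∀ {U : X.Opens} (s : Sec J U), (∀ x ∈ U, ∃ (V : X.Opens) (h : V ≤ U), x ∈ V ∧ res J h s ∈ P V) →
      s ∈ P U) :
    ∃ (L : X.Modules) (i : L ⟶ J), Mono i ∧ ∀ V (s : Sec J V), (∃ t, appS i V t = s) ↔ s ∈ P V := by
  let N : Groth.Agent.Ega1.SubSheaf.Sub J :=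
    { obj := P
      map_mem := fun {_ _} h {s} hs => hres h s hs
      local_mem := fun {_} s h => hloc s h }
  exact ⟨N.toModules, N.ι, inferInstance, fun V s => (N.mem_iff_exists s).symm⟩

theorem exists_lift_sec {K M G : X.Modules} (f : K ⟶ M) (i : G ⟶ M) [Mono i]
    (h : ∀ (U : X.Opens) (s : Sec K U), ∃ t, appS i U t = appS f U s) : ∃ g : K ⟶ G, g ≫ i = f :=
  Groth.Agent.Ega1.SubSheaf.exists_lift f i h

/-- A submodule of the sections over an affine open which locally contains everything is everything. -/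
theorem eq_top_of_locally (L : X.Modules) [SheafOfModules.IsQuasicoherent (R := X.ringCatSheaf) L]
    (U : X.affineOpens) (N : Submodule Γ(X, U.1) (Sec L U.1))
    (H : ∀ (s : Sec L U.1) (x : X), x ∈ U.1 → ∃ (h : Γ(X, U.1)), x ∈ X.basicOpen h ∧
      ∃ t ∈ N, ∃ m : ℕ, res L (X.basicOpen_le h) t = resO X (X.basicOpen_le h) (h ^ m) • res L (X.basicOpen_le h) s) :
    N = ⊤ := by
  rw [eq_top_iff]
  intro s _
  let a : Ideal Γ(X, U.1) := N.colon {s}
  have ha : ∀ b, b ∈ a ↔ b • s ∈ N := by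
    intro b
    simp [a]
  have hcov : U.1 ≤ ⨆ h : (a.radical : Set Γ(X, U.1)), X.basicOpen h.1 := by
    intro x hx
    obtain ⟨h, hxh, t, htN, m, hm⟩ := H s x hx
    refine Opens.mem_iSup.mpr ⟨⟨h, ?_⟩, hxh⟩
    have h1 : res L (X.basicOpen_le h) (t - h ^ m • s) = 0 := by
      rw [map_sub, res_smul, hm, sub_self]
    obtain ⟨n, hn⟩ := (Groth.Agent.CohqB.QC2.loc_of_isQuasicoherent L U.2).eq_zero h _ h1
    refine ⟨n + m, ?_⟩
    rw [ha, pow_add, mul_smul]
    have h2 : h ^ n • h ^ m • s = h ^ n • t := by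
      rw [← sub_eq_zero, ← smul_sub, ← neg_sub, smul_neg]
      exact neg_eq_zero.mpr hn
    rw [h2]
    exact N.smul_mem _ htN
  have h3 := (U.2.self_le_iSup_basicOpen_iff).mp hcov
  rw [Ideal.span_eq, Ideal.radical_eq_top] at h3
  have h4 := (ha 1).mp (h3 ▸ trivial)
  rwa [_root_.one_smul] at h4

end General

variable {X S : Scheme.{u}} {f : X ⟶ S} {Ω' : X.Modules} {d : OmegaSh.Der f Ω'} {r : ℕ}
  (D : Fin r → X.IdealSheafData) {n : ℕ}

/-- The complement of the divisor. -/
def compl : X.Opens := ⟨⋂ i, ((D i).support : Set X)ᶜ, isOpen_iInter_of_finite fun i =>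
  (D i).support.isClosed.isOpen_compl⟩

theorem mem_compl {x : X} : x ∈ compl D ↔ ∀ i, x ∉ (D i).support := by
  change x ∈ (⋂ i, ((D i).support : Set X)ᶜ) ↔ _
  simp

variable {D}

theorem inf_compl_le {V : X.affineOpens} {g : Γ(X, V.1)} {i : Fin r} (hg : (D i).ideal V = Ideal.span {g})
    {V' : X.Opens} (h : V' ≤ V.1) : V' ⊓ compl D ≤ X.basicOpen (resO X h g) := by
  intro x hx
  have h1 : x ∈ X.basicOpen g := by
    by_contra h2
    exact (mem_compl D).mp hx.2 i ((mem_support_iff_span (D i) V g hg x (h hx.1)).mpr h2)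
  rw [resO, Scheme.basicOpen_res]
  exact ⟨hx.1, h1⟩

theorem smul_bij {V : X.affineOpens} {g : Γ(X, V.1)} {i : Fin r} (hg : (D i).ideal V = Ideal.span {g})
    {V' : X.Opens} (h : V' ≤ V.1) (M : X.Modules) :
    Function.Bijective (fun s : Sec (jj (compl D) M) V' => resO X h g • s) :=
  smul_bijective (compl D) M (inf_compl_le hg h)

theorem basicOpen_prod_le {U : X.affineOpens} (c : Chart f D U.1 n) :
    X.basicOpen (∏ i, c.g i) ≤ compl D := by
  intro x hx
  have hxU : x ∈ U.1 := X.basicOpen_le _ hx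
  rw [mem_compl]
  intro i hi
  have h1 := c.ideal i U le_rfl
  rw [resO_self] at h1
  refine (mem_support_iff_span (D i) U (c.g i) h1 x hxU).mp hi ?_
  rw [← Finset.prod_erase_mul _ _ (Finset.mem_univ i), Scheme.basicOpen_mul] at hx
  exact hx.2

theorem mono_rho_compl [Smooth f] (hd : AffUniv d) (hD : LogNCD.IsNCD D f)
    [SheafOfModules.IsQuasicoherent (R := X.ringCatSheaf) Ω'] : Mono (rho (compl D) Ω') := by
  apply mono_rho
  intro O x hx
  obtain ⟨U, n, c, hxU, hU⟩ := exists_chart hD hx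
  exact ⟨U, ∏ i, c.g i, hxU, hU, tf_of_isLocBasis (c.coord.isLocBasis hd) c.isReg_prod, basicOpen_prod_le c⟩

end K922.LogExist
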