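import Groth.Agent.LogNCD.K922.ChartRes
import Groth.Agent.LogNCD.K922.ExtRes
import Groth.Agent.LogNCD.K922.LogExist1
import Groth.Agent.LogNCD.K913.HasCharts
import Groth.Agent.PerfA.QCohEpi
import Groth.Agent.CohqA.AffineVanish
import Groth.Agent.Sga67.LocBasisOps

/-!
# The hypercohomology of the logarithmic de Rham complex and the complement of the divisor
-/

set_option autoImplicit false

universe u

open CategoryTheory CategoryTheory.Limits AlgebraicGeometry Opposite TopologicalSpace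
open scoped TensorProduct
open Groth.Agent.Sga67.Sec Groth.Agent.Sga67.LocBasis

namespace K922.DRes

open K913.CxLoc K913.Chart K913.ChartAcyc K922.OfDR K922.ChartRes K922.OpenRes K922.ExtRes

section vanish

theorem subsingleton_ext_of_iso {C : Type*} [Category* C] [Abelian C] [HasExt C] {Z F G : C}
    (e : F ≅ G) (n : ℕ) (h : Subsingleton (Abelian.Ext Z G n)) :
    Subsingleton (Abelian.Ext Z F n) := by
  refine subsingleton_of_forall_eq 0 fun x => ?_
  have h1 := Abelian.Ext.comp_mk₀_id x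
  rw [← e.hom_inv_id, ← Abelian.Ext.mk₀_comp_mk₀, ← Abelian.Ext.comp_assoc_of_third_deg_zero,
    Subsingleton.elim (x.comp (Abelian.Ext.mk₀ e.hom) (add_zero n)) 0,
    Abelian.Ext.zero_comp] at h1
  exact h1.symm

theorem subsingleton_ext_of_isZero {C : Type*} [Category* C] [Abelian C] [HasExt C] {Z F : C}
    (hF : IsZero F) (n : ℕ) : Subsingleton (Abelian.Ext Z F n) := by
  refine subsingleton_of_forall_eq 0 fun x => ?_
  have h1 := Abelian.Ext.comp_mk₀_id x
  rw [hF.eq_of_src (𝟙 F) 0, Abelian.Ext.mk₀_zero, Abelian.Ext.comp_zero] at h1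
  exact h1.symm

theorem HU_of_iso {T : TopCat.{u}} {F G : CohTop.Ab T} (e : F ≅ G) (n : ℕ) (V : Opens T)
    (h : Subsingleton (CohTop.HU G n V)) : Subsingleton (CohTop.HU F n V) :=
  subsingleton_ext_of_iso e n h

theorem HU_of_isZero {T : TopCat.{u}} {F : CohTop.Ab T} (hF : IsZero F) (n : ℕ) (V : Opens T) :
    Subsingleton (CohTop.HU F n V) :=
  subsingleton_ext_of_isZero hF n

end vanish

variable {X S : Scheme.{u}} {f : X ⟶ S} {Ω' : X.Modules} {d : OmegaSh.Der f Ω'} {r : ℕ}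
  {D : Fin r → X.IdealSheafData} {Λ : LogNCD.LogMod d D}

section chart

variable {U : X.affineOpens} (C : Ch Λ U) (K : DeRhamSh.Cx f Λ.L (LogNCD.der Λ))

theorem kres_injective (p : ℕ) : Function.Injective (K913.CxLoc.kres (toCx K) p (V_le C)) := by
  intro x y hxy
  apply (la (toCx K) p U).injective
  apply rP_inj C K
  rw [rP_la, rP_la, hxy]

theorem exRes_chart (hchar : ∀ n : ℕ, n ≠ 0 → IsUnit (n : Γ(X, U.1))) :
    ExRes (X := X.toTopCat) K.KZ (V_le C) := by
  refine exRes_extend K.K (V_le C) (fun n => kres_injective C K n) ?_ ?_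
  · intro x y hxy
    have h1 : K913.CxLoc.kd (toCx K) 0 1 (V C).1 x = K913.CxLoc.kres (toCx K) 1 (V_le C) y := hxy
    obtain ⟨z, hz⟩ := exists_ext_zero C K hchar (la (toCx K) 0 (V C) x) (la (toCx K) 1 U y) (by
      rw [← la_kd, h1, rP_la])
    obtain ⟨z, rfl⟩ := (la (toCx K) 0 U).surjective z
    refine ⟨z, ?_⟩
    rw [rP_la] at hz
    exact (la (toCx K) 0 (V C)).injective hz
  · intro m x y hxy
    have h1 : K913.CxLoc.kd (toCx K) (m + 1) (m + 2) (V C).1 x = K913.CxLoc.kres (toCx K) (m + 2) (V_le C) y := hxy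
    obtain ⟨w, z, hz⟩ := exists_ext_succ C K hchar m (la (toCx K) (m + 1) (V C) x) (la (toCx K) (m + 2) U y) (by
      rw [← la_kd, h1, rP_la])
    obtain ⟨z, rfl⟩ := (la (toCx K) (m + 1) U).surjective z
    obtain ⟨w, rfl⟩ := (la (toCx K) m (V C)).surjective w
    refine ⟨w, z, ?_⟩
    rw [rP_la, ← la_kd, ← map_add] at hz
    exact (la (toCx K) (m + 1) (V C)).injective hz

theorem V_eq : (V C).1 = U.1 ⊓ K922.LogExist.compl D := by
  apply le_antisymm
  · intro x hx
    have hxU : x ∈ U.1 := V_le C hx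
    refine ⟨hxU, ?_⟩
    have h0 : (V C).1 = X.basicOpen (G C) := rfl
    rw [h0, G] at hx
    refine (K922.LogExist.mem_compl D).2 ?_
    intro i hi
    refine (K922.Chart.mem_support_iff_span (D i) U (C.g i) (C.ideal_eq i) x hxU).mp hi ?_
    rw [← Finset.prod_erase_mul _ _ (Finset.mem_univ i), Scheme.basicOpen_mul] at hx
    exact hx.2
  · intro x hx
    have h0 : (V C).1 = X.basicOpen (G C) := rfl
    rw [h0, G]
    have h1 : ∀ s : Finset (Fin r), x ∈ X.basicOpen (∏ i ∈ s, C.g i) := by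
      intro s
      induction s using Finset.induction_on with
      | empty =>
        rw [Finset.prod_empty, Scheme.basicOpen_of_isUnit _ isUnit_one]
        exact hx.1
      | insert i s hi ih =>
        rw [Finset.prod_insert hi, Scheme.basicOpen_mul]
        refine ⟨?_, ih⟩
        have h2 := K922.LogExist.inf_compl_le (C.ideal_eq i) (le_refl U.1) hx
        rwa [resO_self] at h2
    exact h1 Finset.univ

end chart

variable (K : DeRhamSh.Cx f Λ.L (LogNCD.der Λ))

theorem subsingleton_HU_term (hL : FlatMod.IsFinLocFree Λ.L) (i : ℤ) (q : ℕ) (V : X.Opens) (hV : IsAffineOpen V) :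
    Subsingleton (CohTop.HU (X := X.toTopCat) (K.KZ.X i) (q + 1) V) := by
  rcases lt_or_ge i 0 with hi | hi
  · exact HU_of_isZero (isZero_neg K.K i hi) _ _
  · obtain ⟨n, hn⟩ : ∃ n : ℕ, (n : ℤ) = i := ⟨i.toNat, Int.toNat_of_nonneg hi⟩
    refine HU_of_iso (ei K.K n i hn ≪≫ K.iso n) _ _ ?_
    have h1 : Coh.IsQCoh (K.term n) :=
      Groth.Agent.PerfA.QCohEpi.isQCoh_of_isFinLocFree (isFinLocFree_of_isExtPow hL (K.isExtPow n))
    exact Groth.Agent.CohqA.AffineVanish.HU_subsingleton (K.term n) (q + 1) (Nat.succ_pos q) V hV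

/-- **The log de Rham complex computes the de Rham cohomology of the complement**, in characteristic zero. -/
theorem bijective_res (hch : HasCharts Λ) (hL : FlatMod.IsFinLocFree Λ.L)
    (hchar : ∀ (U : X.Opens) (n : ℕ), n ≠ 0 → IsUnit (n : Γ(X, U)))
    [inst : HasDerivedCategory.{u} (Sheaf (Opens.grothendieckTopology ↥X) AddCommGrpCat.{u})]
    (U : X.Opens) (hU : U = K922.LogExist.compl D) (V W : X.Opens) (h : W ≤ V) (hW : W = V ⊓ U) (n : ℤ) :
    Function.Bijective (CohCx.HDUres (DerivedCategory.Q.obj K.KZ) n (homOfLE h)) := by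
  let _ : HasDerivedCategory.{u} (CohTop.Ab X.toTopCat) := inst
  refine hdures_bijective (X := X.toTopCat) U K.KZ 0 (isZero_neg K.K)
    {V | ∃ V' : X.affineOpens, V'.1 = V ∧ Nonempty (Ch Λ V')} ?_ ?_ ?_ ?_ h hW n
  · intro O x hx
    obtain ⟨V', hxV, hV', hC⟩ := hch x O hx
    exact ⟨V'.1, ⟨V', rfl, hC⟩, hxV, hV'⟩
  · rintro _ ⟨V', rfl, -⟩ i q
    exact subsingleton_HU_term K hL i q V'.1 V'.2
  · rintro _ ⟨V', rfl, ⟨C⟩⟩ i q
    have h1 : V'.1 ⊓ U = (K913.ChartAcyc.V C).1 := by rw [hU, V_eq]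
    rw [h1]
    exact subsingleton_HU_term K hL i q _ (K913.ChartAcyc.V C).2
  · rintro _ ⟨V', rfl, ⟨C⟩⟩ W' hW' hW''
    have h1 : W' = (K913.ChartAcyc.V C).1 := by rw [hW'', hU, V_eq]
    subst h1
    exact exRes_chart C K (hchar V'.1)

end K922.DRes
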