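import Groth.Agent.LogNCD.K922.Frac
import Groth.Agent.CohqB.QC3

/-!
# The direct image of the restriction to an open subscheme
-/

set_option autoImplicit false

universe u

open CategoryTheory CategoryTheory.Limits AlgebraicGeometry Opposite TopologicalSpace
open scoped TensorProduct
open Groth.Agent.Sga67.Sec Groth.Agent.Sga67.LocBasis

namespace K922.JStar

open K922.Tens K922.Quot K922.Coord K922.Frac

variable {X : Scheme.{u}} (U₀ : X.Opens) (M : X.Modules)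

/-- `j_* j^* M`. -/
noncomputable def jj : X.Modules :=
  (Scheme.Modules.pushforward U₀.ι).obj (M.restrict U₀.ι)

theorem img (V : X.Opens) : U₀.ι ''ᵁ (U₀.ι ⁻¹ᵁ V) = V ⊓ U₀ := by
  rw [Scheme.Hom.image_preimage_eq_opensRange_inf, Scheme.Opens.opensRange_ι, inf_comm]

theorem img_le (V : X.Opens) : U₀.ι ''ᵁ (U₀.ι ⁻¹ᵁ V) ≤ V := by
  rw [img]
  exact inf_le_left

/-- underlying section on the image -/
def und (V : X.Opens) (s : Sec (jj U₀ M) V) : Sec M (U₀.ι ''ᵁ (U₀.ι ⁻¹ᵁ V)) := s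

theorem img_mono {V W : X.Opens} (h : W ≤ V) : U₀.ι ''ᵁ (U₀.ι ⁻¹ᵁ W) ≤ U₀.ι ''ᵁ (U₀.ι ⁻¹ᵁ V) := by
  rw [img, img]
  exact inf_le_inf_right _ h

theorem und_res {V W : X.Opens} (h : W ≤ V) (s : Sec (jj U₀ M) V) :
    und U₀ M W (res _ h s) = res M (img_mono U₀ h) (und U₀ M V s) := rfl

/-- Sections of `j_* j^* M` over `V` are the sections of `M` over `V ∩ U₀`. -/
noncomputable def psi (V : X.Opens) : Sec (jj U₀ M) V →+ Sec M (V ⊓ U₀) where
  toFun s := res M (img U₀ V).ge (und U₀ M V s)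
  map_zero' := map_zero _
  map_add' s t := map_add (res M (img U₀ V).ge) (und U₀ M V s) (und U₀ M V t)

theorem psi_apply (V : X.Opens) (s : Sec (jj U₀ M) V) :
    psi U₀ M V s = res M (img U₀ V).ge (und U₀ M V s) := rfl

theorem psi_bijective (V : X.Opens) : Function.Bijective (psi U₀ M V) := by
  refine ⟨fun s t h => ?_, fun s => ⟨res M (img U₀ V).le s, ?_⟩⟩
  · have := congrArg (res M (img U₀ V).le) h
    have e : ∀ s : Sec (jj U₀ M) V, res M (img U₀ V).le (psi U₀ M V s) = und U₀ M V s := fun s =>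
      (res_res M _ _ _).trans (res_self M _ _)
    exact (e s).symm.trans (this.trans (e t))
  · exact (res_res M _ _ _).trans (res_self M _ _)

theorem psi_res {V W : X.Opens} (h : W ≤ V) (s : Sec (jj U₀ M) V) :
    psi U₀ M W (res _ h s) = res M (inf_le_inf_right U₀ h) (psi U₀ M V s) := by
  rw [psi_apply, psi_apply, und_res, res_res, res_res]

theorem ι_app (V : X.Opens) (a : Γ(X, V)) : (show Γ(X, U₀.ι ''ᵁ (U₀.ι ⁻¹ᵁ V)) from U₀.ι.app V a) =
  resO X (img_le U₀ V) a := rfl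

theorem jj_smul1 (V : X.Opens) (a : Γ(X, V)) (s : Sec (jj U₀ M) V) :
    (show Sec (M.restrict U₀.ι) (U₀.ι ⁻¹ᵁ V) from (a • s)) = 
    ((U₀.ι.app V a) • (show Sec (M.restrict U₀.ι) (U₀.ι ⁻¹ᵁ V) from s)) := rfl


theorem jj_smul2 (V : X.Opens) (a : Γ(X, V)) (s : Sec (jj U₀ M) V) :
    (show Sec M (U₀.ι ''ᵁ (U₀.ι ⁻¹ᵁ V)) from
      ((U₀.ι.app V a) • (show Sec (M.restrict U₀.ι) (U₀.ι ⁻¹ᵁ V) from s))) =
      (show Γ(X, U₀.ι ''ᵁ (U₀.ι ⁻¹ᵁ V)) from U₀.ι.app V a) • (show Sec M (U₀.ι ''ᵁ (U₀.ι ⁻¹ᵁ V)) from s) :=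
  restrict_smul (M := M) (U := U₀) (V := U₀.ι ⁻¹ᵁ V) (U₀.ι.app V a) _

theorem und_smul (V : X.Opens) (a : Γ(X, V)) (s : Sec (jj U₀ M) V) :
    und U₀ M V (a • s) = resO X (img_le U₀ V) a • und U₀ M V s := by
  have h1 := jj_smul1 U₀ M V a s
  have h2 := jj_smul2 U₀ M V a s
  rw [ι_app] at h2
  exact (congrArg (fun t : Sec (M.restrict U₀.ι) (U₀.ι ⁻¹ᵁ V) => (show Sec M (U₀.ι ''ᵁ (U₀.ι ⁻¹ᵁ V)) from t)) h1).trans h2

theorem psi_smul (V : X.Opens) (a : Γ(X, V)) (s : Sec (jj U₀ M) V) :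
    psi U₀ M V (a • s) = resO X (inf_le_left : V ⊓ U₀ ≤ V) a • psi U₀ M V s := by
  have h1 : res M (img U₀ V).ge (resO X (img_le U₀ V) a • und U₀ M V s) =
      resO X (inf_le_left : V ⊓ U₀ ≤ V) a • psi U₀ M V s := by
    rw [res_smul, resO_resO]
    rfl
  exact (congrArg (res M (img U₀ V).ge) (und_smul U₀ M V a s)).trans h1

/-- The unit `M ⟶ j_* j^* M`. -/
noncomputable def rho : M ⟶ jj U₀ M := (Scheme.Modules.restrictAdjunction U₀.ι).unit.app M

theorem psi_rho (V : X.Opens) (s : Sec M V) : psi U₀ M V (appS (rho U₀ M) V s) = res M inf_le_left s := by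
  have h : appS (rho U₀ M) V s = res M (img_le U₀ V) s := by
    exact congr($(Scheme.Modules.restrictAdjunction_unit_app_app U₀.ι M V) s)
  rw [h]
  exact res_res M _ _ s

/-- A function invertible on `V ∩ U₀` acts bijectively on the sections of `j_* j^* M`. -/
theorem smul_bijective {V : X.Opens} {g : Γ(X, V)} (hg : V ⊓ U₀ ≤ X.basicOpen g) :
    Function.Bijective (fun s : Sec (jj U₀ M) V => g • s) := by
  have hu : IsUnit (resO X (inf_le_left : V ⊓ U₀ ≤ V) g) := by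
    have h1 : IsUnit (resO X (X.basicOpen_le g) g) := RingedSpace.isUnit_res_basicOpen _ g
    have h2 := h1.map (resO X hg)
    rwa [resO_resO] at h2
  have h := psi_bijective U₀ M V
  obtain ⟨u, hu⟩ := hu
  constructor
  · intro s t hst
    apply h.1
    have := congrArg (psi U₀ M V) hst
    simp only [psi_smul, ← hu] at this
    have h2 := congrArg (fun z => (↑(u⁻¹) : Γ(X, V ⊓ U₀)) • z) this
    simpa only [smul_smul, Units.inv_mul, _root_.one_smul] using h2
  · intro s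
    obtain ⟨t, ht⟩ := h.2 ((↑(u⁻¹) : Γ(X, V ⊓ U₀)) • psi U₀ M V s)
    refine ⟨t, h.1 ?_⟩
    change psi U₀ M V (g • t) = _
    rw [psi_smul, ht, ← hu, smul_smul, Units.mul_inv, _root_.one_smul]

/-- `M ⟶ j_* j^* M` is a monomorphism if `M` is quasi-coherent and `U₀` is locally the locus where a
nonzerodivisor of `M` is invertible. -/
theorem mono_rho [SheafOfModules.IsQuasicoherent (R := X.ringCatSheaf) M]
    (H : ∀ (O : X.Opens) (x : X), x ∈ O → ∃ (U : X.affineOpens) (G : Γ(X, U.1)), x ∈ U.1 ∧ U.1 ≤ O ∧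
      TF M U.1 G ∧ X.basicOpen G ≤ U₀) : Mono (rho U₀ M) := by
  apply mono_of_locally_injective
  intro x O hx
  obtain ⟨U, G, hxU, hU, htf, hG⟩ := H O x hx
  refine ⟨U.1, hU, hxU, fun s hs => ?_⟩
  have h1 : res M (X.basicOpen_le G) s = 0 := by
    have h2 := congrArg (psi U₀ M U.1) hs
    rw [psi_rho, map_zero] at h2
    have h3 := congrArg (res M (le_inf (X.basicOpen_le G) hG)) h2
    rwa [res_res, map_zero] at h3
  obtain ⟨n, hn⟩ := (Groth.Agent.CohqB.QC2.loc_of_isQuasicoherent M U.2).eq_zero G s h1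
  have h4 : ∀ n : ℕ, ∀ s : Sec M U.1, G ^ n • s = 0 → s = 0 := by
    intro n
    induction n with
    | zero => intro s hs; simpa using hs
    | succ n ih =>
      intro s hs
      apply ih
      apply htf.self
      rw [smul_smul, ← pow_succ', hs]
  exact h4 n s hn

end K922.JStar
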