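import Groth.Agent.LogNCD.K922.LogExist1

/-!
# Existence of the log module: the sheaf of modules and its local bases
-/

set_option autoImplicit false

universe u

open CategoryTheory CategoryTheory.Limits AlgebraicGeometry Opposite TopologicalSpace
open scoped TensorProduct
open Groth.Agent.Sga67.Sec Groth.Agent.Sga67.LocBasis

namespace K922.LogExist

open K922.Tens K922.Quot K922.DSec K922.Coord K922.Chart K922.LogBasis K922.Frac K922.JStar

variable {X S : Scheme.{u}} {f : X ⟶ S} {Ω' : X.Modules} (d : OmegaSh.Der f Ω') {r : ℕ}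
  (D : Fin r → X.IdealSheafData) {n : ℕ}

/-- The ambient sheaf of forms with arbitrary poles along `D`. -/
noncomputable abbrev Amb (Ω' : X.Modules) : X.Modules := jj (compl D) Ω'

/-- Local generators: forms without poles and logarithmic differentials of equations. -/
def gens (W : X.affineOpens) : Set (Sec (Amb D Ω') W.1) :=
  Set.range (appS (rho (compl D) Ω') W.1) ∪
    {l | ∃ (i : Fin r) (g : Γ(X, W.1)), (D i).ideal W = Ideal.span {g} ∧
      g • l = appS (rho (compl D) Ω') W.1 (dS d W.1 g)}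

theorem ideal_res {W W' : X.affineOpens} (h : W'.1 ≤ W.1) {I : X.IdealSheafData} {g : Γ(X, W.1)}
    (hg : I.ideal W = Ideal.span {g}) : I.ideal W' = Ideal.span {resO X h g} := by
  rw [← I.map_ideal (U := W') (V := W) h, hg, Ideal.map_span, Set.image_singleton]
  rfl

theorem res_mem_gens {W W' : X.affineOpens} (h : W'.1 ≤ W.1) {s : Sec (Amb D Ω') W.1} (hs : s ∈ gens d D W) :
    res _ h s ∈ gens d D W' := by
  rcases hs with ⟨η, rfl⟩ | ⟨i, g, hg, hl⟩
  · exact Or.inl ⟨res _ h η, by rw [appS_res]⟩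
  · refine Or.inr ⟨i, resO X h g, ideal_res h hg, ?_⟩
    rw [← res_smul, hl, ← appS_res, dS_res]

/-- The submodule of local logarithmic forms. -/
noncomputable def locN (W : X.affineOpens) : Submodule Γ(X, W.1) (Sec (Amb D Ω') W.1) :=
  Submodule.span _ (gens d D W)

theorem res_mem_locN {W W' : X.affineOpens} (h : W'.1 ≤ W.1) {s : Sec (Amb D Ω') W.1} (hs : s ∈ locN d D W) :
    res _ h s ∈ locN d D W' := by
  induction hs using Submodule.span_induction with
  | mem s hs => exact Submodule.subset_span (res_mem_gens d D h hs)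
  | zero => rw [map_zero]; exact Submodule.zero_mem _
  | add s t _ _ h1 h2 => rw [map_add]; exact Submodule.add_mem _ h1 h2
  | smul a s _ h1 => rw [res_smul]; exact Submodule.smul_mem _ _ h1

/-- Log forms: sections which are locally in `locN`. -/
noncomputable def logP (V : X.Opens) : Submodule Γ(X, V) (Sec (Amb D Ω') V) where
  carrier := {s | ∀ x ∈ V, ∃ (W : X.affineOpens) (h : W.1 ≤ V), x ∈ W.1 ∧ res _ h s ∈ locN d D W}
  zero_mem' := by
    intro x hx
    obtain ⟨W, hW, hxW⟩ := exists_affine_nhd (X := X) hx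
    exact ⟨W, hW, hxW, by rw [map_zero]; exact Submodule.zero_mem _⟩
  add_mem' := by
    intro s t hs ht x hx
    obtain ⟨W1, h1, hx1, hs1⟩ := hs x hx
    obtain ⟨W2, h2, hx2, hs2⟩ := ht x hx
    obtain ⟨W, hW, hxW⟩ := exists_affine_nhd (X := X) (U := W1.1 ⊓ W2.1) (x := x) ⟨hx1, hx2⟩
    refine ⟨W, (hW.trans inf_le_left).trans h1, hxW, ?_⟩
    rw [map_add]
    refine Submodule.add_mem _ ?_ ?_
    · have := res_mem_locN d D (hW.trans inf_le_left) hs1
      rwa [res_res] at this
    · have := res_mem_locN d D (hW.trans inf_le_right) hs2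
      rwa [res_res] at this
  smul_mem' := by
    intro a s hs x hx
    obtain ⟨W1, h1, hx1, hs1⟩ := hs x hx
    refine ⟨W1, h1, hx1, ?_⟩
    rw [res_smul]
    exact Submodule.smul_mem _ _ hs1

theorem mem_logP {V : X.Opens} {s : Sec (Amb D Ω') V} : s ∈ logP d D V ↔
    ∀ x ∈ V, ∃ (W : X.affineOpens) (h : W.1 ≤ V), x ∈ W.1 ∧ res _ h s ∈ locN d D W := Iff.rfl

theorem mem_logP_of_locN {W : X.affineOpens} {s : Sec (Amb D Ω') W.1} (hs : s ∈ locN d D W) :
    s ∈ logP d D W.1 :=
  fun x hx => ⟨W, le_rfl, hx, by rwa [res_self]⟩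

theorem exists_logL : ∃ (L : X.Modules) (i : L ⟶ Amb D Ω'), Mono i ∧
    ∀ V (s : Sec (Amb D Ω') V), (∃ t, appS i V t = s) ↔ s ∈ logP d D V := by
  apply exists_sub
  · intro U V h s hs x hx
    obtain ⟨W1, h1, hx1, hs1⟩ := hs x (h hx)
    obtain ⟨W, hW, hxW⟩ := exists_affine_nhd (X := X) (U := W1.1 ⊓ V) (x := x) ⟨hx1, hx⟩
    refine ⟨W, hW.trans inf_le_right, hxW, ?_⟩
    have := res_mem_locN d D (hW.trans inf_le_left) hs1
    rw [res_res] at this ⊢
    exact this
  · intro U s hs x hx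
    obtain ⟨V, h, hxV, hsV⟩ := hs x hx
    obtain ⟨W1, h1, hx1, hs1⟩ := hsV x hxV
    refine ⟨W1, h1.trans h, hx1, ?_⟩
    rwa [res_res] at hs1

variable {d D}

/-- Comparison of the logarithmic differentials of two equations. -/
theorem dlog_compare {V : X.affineOpens} {i : Fin r} {g g₀ : Γ(X, V.1)} (hg : (D i).ideal V = Ideal.span {g})
    (hg₀ : (D i).ideal V = Ideal.span {g₀}) (hreg : IsReg V.1 g₀) {l l₀ : Sec (Amb D Ω') V.1}
    (hl : g • l = appS (rho (compl D) Ω') V.1 (dS d V.1 g))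
    (hl₀ : g₀ • l₀ = appS (rho (compl D) Ω') V.1 (dS d V.1 g₀)) :
    ∃ η : Sec Ω' V.1, l = l₀ + appS (rho (compl D) Ω') V.1 η := by
  have h1 : g ∈ Ideal.span {g₀} := by rw [← hg₀, hg]; exact Ideal.mem_span_singleton_self g
  have h2 : g₀ ∈ Ideal.span {g} := by rw [← hg, hg₀]; exact Ideal.mem_span_singleton_self g₀
  obtain ⟨w, hw⟩ := Ideal.mem_span_singleton'.mp h1
  obtain ⟨v, hv⟩ := Ideal.mem_span_singleton'.mp h2
  have hvw : v * w = 1 := by
    rw [← sub_eq_zero]
    apply hreg V.1 le_rfl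
    rw [resO_self, mul_sub, mul_one, mul_left_comm, mul_comm g₀ w, hw, hv, sub_self]
  refine ⟨v • dS d V.1 w, ?_⟩
  have hbij : Function.Injective (fun s : Sec (Amb D Ω') V.1 => g₀ • s) := by
    have := (smul_bij hg₀ le_rfl Ω').1
    simpa only [resO_self] using this
  have h3 : w • l = w • l₀ + appS (rho (compl D) Ω') V.1 (dS d V.1 w) := by
    apply hbij
    change g₀ • (w • l) = g₀ • (w • l₀ + _)
    rw [smul_smul, mul_comm g₀ w, hw, hl, ← hw, dS_mul, map_add, map_smul, map_smul, smul_add, ← hl₀,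
      smul_comm w g₀ l₀]
  have h4 := congrArg (fun z => v • z) h3
  simp only [smul_add, smul_smul, hvw, _root_.one_smul] at h4
  rw [h4, map_smul]

/-- The elements `λ_k` of the ambient sheaf with `h_k λ_k = d v_k`. -/
theorem exists_lam {U : X.affineOpens} (c : Chart f D U.1 n) :
    ∃ l : Fin n → Sec (Amb D Ω') U.1, (∀ k, fac c k • l k = appS (rho (compl D) Ω') U.1 (dS d U.1 (c.v k))) ∧
      ∀ k, l k ∈ locN d D U := by
  classical
  have key : ∀ k, ∃ l : Sec (Amb D Ω') U.1, fac c k • l = appS (rho (compl D) Ω') U.1 (dS d U.1 (c.v k)) ∧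
      l ∈ locN d D U := by
    intro k
    by_cases hk : ∃ i, c.e i = some k
    · obtain ⟨i, hi⟩ := hk
      have hid : (D i).ideal U = Ideal.span {c.v k} := by
        have := c.ideal i U le_rfl
        rwa [resO_self, c.g_some i k hi] at this
      have hbij : Function.Surjective (fun s : Sec (Amb D Ω') U.1 => c.v k • s) := by
        have := (smul_bij hid le_rfl Ω').2
        simpa only [resO_self] using this
      obtain ⟨l, hl⟩ := hbij (appS (rho (compl D) Ω') U.1 (dS d U.1 (c.v k)))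
      have hf : fac c k = c.v k := if_pos ⟨i, hi⟩
      exact ⟨l, by rw [hf]; exact hl, Submodule.subset_span (Or.inr ⟨i, c.v k, hid, hl⟩)⟩
    · have hf : fac c k = 1 := if_neg hk
      refine ⟨_, ?_, Submodule.subset_span (Or.inl ⟨dS d U.1 (c.v k), rfl⟩)⟩
      rw [hf, _root_.one_smul]
  choose l h1 h2 using key
  exact ⟨l, h1, h2⟩

/-- The local generators are combinations of the `λ_k`. -/
theorem locN_le_span (hd : AffUniv d) {U : X.affineOpens} (c : Chart f D U.1 n) {l : Fin n → Sec (Amb D Ω') U.1}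
    (hl : ∀ k, fac c k • l k = appS (rho (compl D) Ω') U.1 (dS d U.1 (c.v k))) :
    locN d D U ≤ Submodule.span _ (Set.range l) := by
  classical
  have hω := c.coord.isLocBasis hd
  have h1 : ∀ η, appS (rho (compl D) Ω') U.1 η ∈ Submodule.span Γ(X, U.1) (Set.range l) := by
    intro η
    obtain ⟨a, rfl⟩ := (hω U.1 le_rfl).2 η
    rw [comb_apply, map_sum]
    refine Submodule.sum_mem _ fun k _ => ?_
    rw [map_smul, res_self, ← hl]
    exact Submodule.smul_mem _ _ (Submodule.smul_mem _ _ (Submodule.subset_span ⟨k, rfl⟩))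
  rw [locN, Submodule.span_le]
  rintro s (⟨η, rfl⟩ | ⟨i, g, hg, hs⟩)
  · exact h1 η
  · have hid := c.ideal i U le_rfl
    rw [resO_self] at hid
    rcases h : c.e i with _ | k
    · obtain ⟨η, hη⟩ := dlog_compare (l₀ := 0) hg hid (c.isReg_g i) hs
        (by rw [c.g_none i h, dS_one, map_zero, smul_zero])
      rw [hη, zero_add]
      exact h1 η
    · have hf : fac c k = c.v k := if_pos ⟨i, h⟩
      obtain ⟨η, hη⟩ := dlog_compare (l₀ := l k) hg hid (c.isReg_g i) hs
        (by rw [c.g_some i k h, ← hf, hl, hf])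
      rw [hη]
      exact Submodule.add_mem _ (Submodule.subset_span ⟨k, rfl⟩) (h1 η)

end K922.LogExist
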