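import Groth.Agent.LogNCD.K922.LogExist2

/-!
# Existence of the log module: bases and residues
-/

set_option autoImplicit false

universe u

open CategoryTheory CategoryTheory.Limits AlgebraicGeometry Opposite TopologicalSpace
open scoped TensorProduct
open Groth.Agent.Sga67.Sec Groth.Agent.Sga67.LocBasis

namespace K922.LogExist

open K922.Tens K922.Quot K922.DSec K922.Coord K922.Chart K922.LogBasis K922.Frac K922.JStar

variable {X S : Scheme.{u}} {f : X ⟶ S} {Ω' : X.Modules} (d : OmegaSh.Der f Ω') {r : ℕ}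
  (D : Fin r → X.IdealSheafData) {n : ℕ}

/-- The sheaf of log forms with the inclusion of forms without poles. -/
structure Mdl where
  L : X.Modules
  i : L ⟶ Amb D Ω'
  mono : Mono i
  mem : ∀ V (s : Sec (Amb D Ω') V), (∃ t, appS i V t = s) ↔ s ∈ logP d D V
  ι : Ω' ⟶ L
  ι_i : ι ≫ i = rho (compl D) Ω'

theorem exists_mdl : Nonempty (Mdl d D) := by
  obtain ⟨L, i, hi, hP⟩ := exists_logL d D
  obtain ⟨ι, hι⟩ := exists_lift_sec (rho (compl D) Ω') i (by
    intro U s
    rw [hP]
    intro x hx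
    obtain ⟨W, hW, hxW⟩ := exists_affine_nhd (X := X) hx
    refine ⟨W, hW, hxW, ?_⟩
    rw [← appS_res]
    exact Submodule.subset_span (Or.inl ⟨_, rfl⟩))
  exact ⟨⟨L, i, hi, hP, ι, hι⟩⟩

variable {d D}

theorem Mdl.mono_ι (m : Mdl d D) [Mono (rho (compl D) Ω')] : Mono m.ι := by
  have : Mono (m.ι ≫ m.i) := by rw [m.ι_i]; infer_instance
  exact mono_of_mono m.ι m.i

theorem Mdl.i_injective (m : Mdl d D) (U : X.Opens) : Function.Injective (appS m.i U) :=
  have := m.mono
  injective_of_mono m.i U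

theorem Mdl.i_ι (m : Mdl d D) {U : X.Opens} (s : Sec Ω' U) :
    appS m.i U (appS m.ι U s) = appS (rho (compl D) Ω') U s := by
  rw [← appS_comp, m.ι_i]

theorem fac_restrict {U : X.Opens} (c : Chart f D U n) {W : X.Opens} (h : W ≤ U) (k : Fin n) :
    fac (c.restrict h) k = resO X h (fac c k) := by
  unfold fac
  by_cases hk : ∃ i, c.e i = some k
  · have hk' : ∃ i, (c.restrict h).e i = some k := hk
    rw [if_pos hk, if_pos hk']
    rfl
  · have hk' : ¬ ∃ i, (c.restrict h).e i = some k := hk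
    rw [if_neg hk, if_neg hk', map_one]

/-- The basis on a chart. -/
structure MB (m : Mdl d D) {U : X.Opens} (c : Chart f D U n) where
  b : Fin n → Sec m.L U
  isLocBasis : IsLocBasis b
  fac_smul : ∀ k, fac c k • b k = appS m.ι U (dS d U (c.v k))

theorem exists_MB (hd : AffUniv d) [Mono (rho (compl D) Ω')] (m : Mdl d D) {U : X.affineOpens}
    (c : Chart f D U.1 n) : Nonempty (MB m c) := by
  have := m.mono_ι
  obtain ⟨l, hl, hlN⟩ := exists_lam (d := d) c
  choose b hb using fun k => (m.mem U.1 (l k)).mpr (mem_logP_of_locN d D (hlN k))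
  have hfac : ∀ k, fac c k • b k = appS m.ι U.1 (dS d U.1 (c.v k)) := by
    intro k
    apply m.i_injective
    rw [map_smul, hb, hl, m.i_ι]
  refine ⟨⟨b, ?_, hfac⟩⟩
  apply isLocBasis_of_locally' b (comb_injective m.ι (c.coord.isLocBasis hd) (isReg_fac c) hfac)
  intro V hV s x hx
  obtain ⟨W, hWV, hxW, hW⟩ := (m.mem V (appS m.i V s)).mp ⟨s, rfl⟩ x hx
  have hWU := hWV.trans hV
  refine ⟨W.1, hWV, hWU, hxW, ?_⟩
  have h1 := locN_le_span hd (c.restrict hWU) (l := fun k => res _ hWU (l k)) (by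
    intro k
    rw [fac_restrict, ← res_smul, hl, ← appS_res, dS_res]
    rfl) hW
  obtain ⟨a, ha⟩ := (Submodule.mem_span_range_iff_exists_fun _).mp h1
  refine ⟨a, ?_⟩
  apply m.i_injective
  rw [appS_res, ← ha, comb_apply, map_sum]
  refine Finset.sum_congr rfl fun k _ => ?_
  rw [map_smul, appS_res, hb]

/-- Restriction. -/
noncomputable def MB.restrict {m : Mdl d D} {U : X.Opens} {c : Chart f D U n} (B : MB m c) {W : X.Opens}
    (h : W ≤ U) : MB m (c.restrict h) where
  b k := res _ h (B.b k)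
  isLocBasis := B.isLocBasis.restrict h
  fac_smul k := by
    rw [fac_restrict, ← res_smul, B.fac_smul, ← appS_res, dS_res]
    rfl

/-- Comparison of logarithmic differentials in `L`. -/
theorem dlog_compare' (m : Mdl d D) {V : X.affineOpens} {i : Fin r} {g g₀ : Γ(X, V.1)}
    (hg : (D i).ideal V = Ideal.span {g})
    (hg₀ : (D i).ideal V = Ideal.span {g₀}) (hreg : IsReg V.1 g₀) {l l₀ : Sec m.L V.1}
    (hl : g • l = appS m.ι V.1 (dS d V.1 g))
    (hl₀ : g₀ • l₀ = appS m.ι V.1 (dS d V.1 g₀)) :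
    ∃ η : Sec Ω' V.1, l = l₀ + appS m.ι V.1 η := by
  obtain ⟨η, hη⟩ := dlog_compare (l := appS m.i V.1 l) (l₀ := appS m.i V.1 l₀) hg hg₀ hreg
    (by rw [← map_smul, hl, m.i_ι]) (by rw [← map_smul, hl₀, m.i_ι])
  refine ⟨η, m.i_injective _ ?_⟩
  rw [map_add, m.i_ι, hη]

/-- The residue on a chart. -/
noncomputable def resc {m : Mdl d D} {U : X.Opens} {c : Chart f D U n} (B : MB m c) (i : Fin r) :
    Sec m.L U →ₗ[Γ(X, U)] Sec (ClSub.quotMod (D i)) U :=
  open Classical in
  (B.isLocBasis.basis (le_refl U)).constr ℕ (fun k => if c.e i = some k then LogNCD.oneOn (D i) U else 0)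

theorem resc_b {m : Mdl d D} {U : X.Opens} {c : Chart f D U n} (B : MB m c) (i : Fin r) (k : Fin n) :
    resc B i (B.b k) = open Classical in if c.e i = some k then LogNCD.oneOn (D i) U else 0 := by
  classical
  have h := (B.isLocBasis.basis (le_refl U)).constr_basis ℕ
    (fun k => if c.e i = some k then LogNCD.oneOn (D i) U else 0) k
  rw [B.isLocBasis.basis_apply, res_self] at h
  exact h

theorem resc_ι (hd : AffUniv d) {m : Mdl d D} {U : X.affineOpens} {c : Chart f D U.1 n} (B : MB m c) (i : Fin r)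
    (η : Sec Ω' U.1) : resc B i (appS m.ι U.1 η) = 0 := by
  classical
  obtain ⟨a, rfl⟩ := (c.coord.isLocBasis hd U.1 le_rfl).2 η
  rw [comb_apply, map_sum, map_sum]
  refine Finset.sum_eq_zero fun k _ => ?_
  rw [map_smul, map_smul, res_self, ← B.fac_smul, map_smul, resc_b]
  split_ifs with h
  · have hf : fac c k = c.v k := if_pos ⟨i, h⟩
    have hid := c.ideal i U le_rfl
    rw [resO_self, c.g_some i k h] at hid
    rw [hf, ← cls_eq_smul_one, (cls_eq_zero_iff (D i) U (c.v k)).mpr
      (hid ▸ Ideal.mem_span_singleton_self _), smul_zero]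
  · rw [smul_zero, smul_zero]

theorem resc_dl (hd : AffUniv d) {m : Mdl d D} {U : X.affineOpens} {c : Chart f D U.1 n} (B : MB m c)
    (i j : Fin r) {g : Γ(X, U.1)} (hg : (D j).ideal U = Ideal.span {g}) {l : Sec m.L U.1}
    (hl : g • l = appS m.ι U.1 (dS d U.1 g)) :
    resc B i l = if i = j then LogNCD.oneOn (D i) U.1 else 0 := by
  classical
  have hid := c.ideal j U le_rfl
  rw [resO_self] at hid
  rcases h : c.e j with _ | k
  · obtain ⟨η, hη⟩ := dlog_compare' m (l₀ := 0) hg hid (c.isReg_g j) hl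
        (by rw [c.g_none j h, dS_one, map_zero, smul_zero])
    rw [hη, zero_add, resc_ι hd]
    split_ifs with hij
    · subst hij
      symm
      rw [← cls_one, cls_eq_zero_iff]
      rw [c.g_none i h, Ideal.span_singleton_one] at hid
      rw [hid]
      trivial
    · rfl
  · have hf : fac c k = c.v k := if_pos ⟨j, h⟩
    obtain ⟨η, hη⟩ := dlog_compare' m (l₀ := B.b k) hg hid (c.isReg_g j) hl
      (by rw [c.g_some j k h, ← hf, B.fac_smul, hf])
    rw [hη, map_add, resc_ι hd, add_zero, resc_b]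
    by_cases hij : i = j
    · subst hij
      rw [if_pos h, if_pos rfl]
    · rw [if_neg hij, if_neg (fun hi => hij (c.inj _ _ k hi h))]

theorem resc_res (hd : AffUniv d) {m : Mdl d D} {U V : X.affineOpens} {n' : ℕ} {c : Chart f D U.1 n}
    {c' : Chart f D V.1 n'} (B : MB m c) (B' : MB m c') (i : Fin r) (h : V.1 ≤ U.1) (s : Sec m.L U.1) :
    resc B' i (res _ h s) = res _ h (resc B i s) := by
  classical
  obtain ⟨a, rfl⟩ := (B.isLocBasis U.1 le_rfl).2 s
  rw [comb_apply, map_sum, map_sum, map_sum, map_sum]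
  refine Finset.sum_congr rfl fun k _ => ?_
  rw [res_self, res_smul, (resc B' i).map_smul, (resc B i).map_smul, res_smul]
  refine congrArg _ ?_
  rw [resc_b]
  by_cases hk : ∃ j, c.e j = some k
  · obtain ⟨j, hj⟩ := hk
    have hid := c.ideal j V h
    have hf : fac c k = c.v k := if_pos ⟨j, hj⟩
    rw [resc_dl hd B' i j hid (l := res _ h (B.b k)) (by
      rw [← res_smul, c.g_some j k hj, ← hf, B.fac_smul, ← appS_res, dS_res, hf])]
    by_cases hij : i = j
    · subst hij
      rw [if_pos hj, if_pos rfl, res_oneOn]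
    · rw [if_neg hij, if_neg (fun hi => hij (c.inj _ _ k hi hj)), map_zero]
  · have hf : fac c k = 1 := if_neg hk
    have h1 : B.b k = appS m.ι U.1 (dS d U.1 (c.v k)) := by
      have := B.fac_smul k
      rwa [hf, _root_.one_smul] at this
    rw [h1, ← appS_res, resc_ι hd, if_neg (fun hi => hk ⟨i, hi⟩), map_zero]

end K922.LogExist
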