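import Groth.Agent.LogNCD.K922.LogExist3

/-!
# Existence of the log module
-/

set_option autoImplicit false

universe u

open CategoryTheory CategoryTheory.Limits AlgebraicGeometry Opposite TopologicalSpace
open scoped TensorProduct
open Groth.Agent.Sga67.Sec Groth.Agent.Sga67.LocBasis

namespace K922.LogExist

open K922.Tens K922.Quot K922.DSec K922.Coord K922.Chart K922.LogBasis K922.Frac K922.JStar

variable {X S : Scheme.{u}} {f : X ⟶ S} {Ω' : X.Modules} {d : OmegaSh.Der f Ω'} {r : ℕ}
  {D : Fin r → X.IdealSheafData} {n : ℕ}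

/-- The residue map. -/
theorem exists_res [Smooth f] (hd : AffUniv d) (hD : LogNCD.IsNCD D f) [Mono (rho (compl D) Ω')] (m : Mdl d D)
    (i : Fin r) : ∃ ρ : m.L ⟶ ClSub.quotMod (D i), ∀ (U : X.affineOpens) (n : ℕ) (c : Chart f D U.1 n)
      (B : MB m c) (s : Sec m.L U.1), appS ρ U.1 s = resc B i s := by
  classical
  let I := {U : X.affineOpens // ∃ n, Nonempty (Chart f D U.1 n)}
  choose N hN using fun (j : I) => j.2
  let c : ∀ j : I, Chart f D j.1.1 (N j) := fun j => (hN j).some
  let B : ∀ j : I, MB m (c j) := fun j => (exists_MB hd m (c j)).some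
  have hB : Opens.IsBasis (Set.range fun j : I => j.1.1) := by
    rw [Opens.isBasis_iff_nbhd]
    intro O x hx
    obtain ⟨U, n, c, hxU, hUO⟩ := exists_chart hD hx
    exact ⟨U.1, ⟨⟨U, n, ⟨c⟩⟩, rfl⟩, hxU, hUO⟩
  obtain ⟨ρ, hρ⟩ := exists_hom_of_basis' hB m.L (ClSub.quotMod (D i)) (fun j => resc (B j) i)
    (fun j k h s => resc_res hd (B j) (B k) i h s)
  refine ⟨ρ, fun U n c' B' s => ?_⟩
  have h1 := hρ ⟨U, n, ⟨c'⟩⟩ s
  refine h1.trans ?_
  have h2 := resc_res hd (B ⟨U, n, ⟨c'⟩⟩) B' i le_rfl s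
  rw [res_self, res_self] at h2
  exact h2.symm

theorem isFinLocFree_mdl [Smooth f] (hd : AffUniv d) (hD : LogNCD.IsNCD D f) [Mono (rho (compl D) Ω')]
    (m : Mdl d D) : FlatMod.IsFinLocFree m.L := by
  apply isFinLocFree_of_exists
  intro x
  obtain ⟨U, n, c, hxU, -⟩ := exists_chart hD (O := ⊤) (x := x) trivial
  obtain ⟨B⟩ := exists_MB hd m c
  exact ⟨U.1, Fin n, inferInstance, B.b, hxU, B.isLocBasis⟩

/-- The rule. -/
theorem rule_mdl [Smooth f] (hd : AffUniv d) (hD : LogNCD.IsNCD D f) [Mono (rho (compl D) Ω')] (m : Mdl d D)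
    [SheafOfModules.IsQuasicoherent (R := X.ringCatSheaf) Ω']
    [SheafOfModules.IsQuasicoherent (R := X.ringCatSheaf) m.L]
    (ρ : ∀ i, m.L ⟶ ClSub.quotMod (D i)) (hρ : ∀ i (U : X.affineOpens) (n : ℕ) (c : Chart f D U.1 n)
      (B : MB m c) (s : Sec m.L U.1), appS (ρ i) U.1 s = resc B i s)
    (U : X.affineOpens) (g : Fin r → Γ(X, U.1)) (hg : ∀ i, (D i).ideal U = Ideal.span {g i}) :
    (∀ x : Sec m.L U.1, (∏ i, g i) • x = 0 → x = 0) ∧
    ∃ dl : Fin r → Sec m.L U.1,
      (∀ i, g i • dl i = appS m.ι U.1 (dS d U.1 (g i))) ∧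
      Submodule.span Γ(X, U.1) (Set.range (appS m.ι U.1) ∪ Set.range dl) = ⊤ ∧
      (∀ i, appS (ρ i) U.1 (dl i) = LogNCD.oneOn (D i) U.1) ∧
      (∀ i j, i ≠ j → appS (ρ j) U.1 (dl i) = 0) := by
  classical
  have hbij : ∀ i, Function.Bijective (fun s : Sec (Amb D Ω') U.1 => g i • s) := fun i => by
    have := smul_bij (hg i) le_rfl Ω'
    simpa only [resO_self] using this
  -- the logarithmic differentials
  choose l hl using fun i => (hbij i).2 (appS (rho (compl D) Ω') U.1 (dS d U.1 (g i)))
  have hlN : ∀ i, l i ∈ logP d D U.1 := fun i =>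
    mem_logP_of_locN d D (Submodule.subset_span (Or.inr ⟨i, g i, hg i, hl i⟩))
  choose dl hdl using fun i => (m.mem U.1 (l i)).mpr (hlN i)
  have hdl' : ∀ i, g i • dl i = appS m.ι U.1 (dS d U.1 (g i)) := by
    intro i
    apply m.i_injective
    rw [map_smul, hdl, m.i_ι]
    exact hl i
  have hres : ∀ i j, appS (ρ i) U.1 (dl j) = if i = j then LogNCD.oneOn (D i) U.1 else 0 := by
    intro i j
    apply eq_of_locally
    intro x hx
    obtain ⟨W, n, c, hxW, hW⟩ := exists_chart hD hx
    obtain ⟨B⟩ := exists_MB hd m c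
    refine ⟨W.1, hW, hxW, ?_⟩
    rw [← appS_res, hρ i W n c B, resc_dl hd B i j (ideal_res hW (hg j)) (by
      rw [← res_smul, hdl', ← appS_res, dS_res])]
    split_ifs
    · rw [res_oneOn]
    · rw [map_zero]
  refine ⟨?_, dl, hdl', ?_, fun i => (hres i i).trans (if_pos rfl), fun i j hij =>
    (hres j i).trans (if_neg (Ne.symm hij))⟩
  · intro x hx
    apply m.i_injective
    rw [map_zero]
    have h1 : (∏ i, g i) • appS m.i U.1 x = 0 := by rw [← map_smul, hx, map_zero]
    have h2 : ∀ (T : Finset (Fin r)) (y : Sec (Amb D Ω') U.1), (∏ i ∈ T, g i) • y = 0 → y = 0 := by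
      intro T
      induction T using Finset.induction_on with
      | empty => intro y hy; simpa using hy
      | insert i T hi ih =>
        intro y hy
        rw [Finset.prod_insert hi, mul_smul] at hy
        apply ih
        apply (hbij i).1
        change g i • _ = g i • (0 : Sec (Amb D Ω') U.1)
        rw [hy, smul_zero]
    exact h2 _ _ h1
  · apply eq_top_of_locally
    intro s x hx
    obtain ⟨W, n, c, hxW, hW⟩ := exists_chart hD hx
    obtain ⟨h, hhW, hxh⟩ := U.2.exists_basicOpen_le ⟨x, hxW⟩ hx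
    -- on the basic open, with the restricted chart
    let V : X.affineOpens := ⟨X.basicOpen h, U.2.basicOpen h⟩
    have hVU : V.1 ≤ U.1 := X.basicOpen_le h
    obtain ⟨B⟩ := exists_MB (U := V) hd m (c.restrict hhW)
    have hone : ∃ η : Sec Ω' V.1, ∃ a : Fin r → Γ(X, V.1),
        res _ hVU s = appS m.ι V.1 η + ∑ i, a i • res _ hVU (dl i) := by
      have hmem : ∀ y : Sec m.L V.1, ∃ η : Sec Ω' V.1, ∃ a : Fin r → Γ(X, V.1),
          y = appS m.ι V.1 η + ∑ i, a i • res _ hVU (dl i) := by
        intro y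
        obtain ⟨b, rfl⟩ := (B.isLocBasis V.1 le_rfl).2 y
        have hk : ∀ k, ∃ η : Sec Ω' V.1, ∃ a : Fin r → Γ(X, V.1),
            B.b k = appS m.ι V.1 η + ∑ i, a i • res _ hVU (dl i) := by
          intro k
          by_cases hk : ∃ j, (c.restrict hhW).e j = some k
          · obtain ⟨j, hj⟩ := hk
            have hf : fac (c.restrict hhW) k = (c.restrict hhW).v k := if_pos ⟨j, hj⟩
            have hid := (c.restrict hhW).ideal j V le_rfl
            rw [resO_self, (c.restrict hhW).g_some j k hj] at hid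
            obtain ⟨η, hη⟩ := dlog_compare' m (l := res _ hVU (dl j)) (l₀ := B.b k) (ideal_res hVU (hg j)) hid
              ((c.restrict hhW).coord.isReg k)
              (by rw [← res_smul, hdl', ← appS_res, dS_res]) (by rw [← hf, B.fac_smul, hf])
            refine ⟨-η, Pi.single j 1, ?_⟩
            rw [Finset.sum_eq_single j]
            · rw [Pi.single_eq_same, _root_.one_smul, hη, map_neg]
              abel
            · intro i _ hi
              rw [Pi.single_eq_of_ne hi, zero_smul]
            · simp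
          · have hf : fac (c.restrict hhW) k = 1 := if_neg hk
            have h1 := B.fac_smul k
            rw [hf, _root_.one_smul] at h1
            refine ⟨dS d V.1 ((c.restrict hhW).v k), 0, h1.trans ?_⟩
            simp
        choose η a hηa using hk
        refine ⟨∑ k, b k • η k, fun i => ∑ k, b k * a k i, ?_⟩
        have h1 : ∀ k, b k • res m.L (le_refl V.1) (B.b k) =
            appS m.ι V.1 (b k • η k) + ∑ i, (b k * a k i) • res _ hVU (dl i) := by
          intro k
          rw [res_self, hηa, smul_add, map_smul, Finset.smul_sum]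
          simp only [mul_smul]
        rw [comb_apply, Finset.sum_congr rfl (fun k _ => h1 k), Finset.sum_add_distrib, map_sum,
          Finset.sum_comm]
        simp only [Finset.sum_smul]
      exact hmem _
    obtain ⟨η, a, hηa⟩ := hone
    -- clear denominators
    obtain ⟨k0, η', hη'⟩ : ∃ (k0 : ℕ) (η' : Sec Ω' U.1), res Ω' hVU η' = resO X hVU (h ^ k0) • η := by
      obtain ⟨n, t, ht⟩ := (Groth.Agent.CohqB.QC2.loc_of_isQuasicoherent Ω' U.2).exists_lift h η
      exact ⟨n, t, by rw [map_pow]; exact ht⟩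
    have hlocO : IsLocalization.Away h Γ(X, X.basicOpen h) := U.2.isLocalization_basicOpen h
    have hax : ∀ i, ∃ (ki : ℕ) (a' : Γ(X, U.1)), resO X hVU a' = resO X hVU (h ^ ki) * a i := by
      intro i
      obtain ⟨⟨a', ⟨_, ki, rfl⟩⟩, hn⟩ := IsLocalization.surj (Submonoid.powers h) (a i)
      refine ⟨ki, a', ?_⟩
      rw [mul_comm]
      exact hn.symm
    choose ki a' ha' using hax
    let K := k0 + ∑ i, ki i
    refine ⟨h, hxh, (h ^ (∑ i, ki i)) • appS m.ι U.1 η' + ∑ i, (h ^ (K - ki i) * a' i) • dl i, ?_, K, ?_⟩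
    · refine Submodule.add_mem _ (Submodule.smul_mem _ _ (Submodule.subset_span (Or.inl ⟨_, rfl⟩))) ?_
      exact Submodule.sum_mem _ fun i _ => Submodule.smul_mem _ _ (Submodule.subset_span (Or.inr ⟨i, rfl⟩))
    · have e1 : res m.L hVU (h ^ (∑ i, ki i) • appS m.ι U.1 η') = resO X hVU (h ^ K) • appS m.ι V.1 η := by
        rw [res_smul, ← appS_res]
        rw [hη', map_smul, smul_smul, ← map_mul, ← pow_add, add_comm]
      have e2 : ∀ i, res m.L hVU ((h ^ (K - ki i) * a' i) • dl i) =
          resO X hVU (h ^ K) • (a i • res m.L hVU (dl i)) := by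
        intro i
        have hle : ki i ≤ K := (Finset.single_le_sum (fun _ _ => Nat.zero_le _) (Finset.mem_univ i)).trans
          (Nat.le_add_left _ _)
        rw [res_smul, map_mul, ha', smul_smul, ← mul_assoc, ← map_mul, ← pow_add, Nat.sub_add_cancel hle]
      change res m.L hVU _ = resO X hVU (h ^ K) • res m.L hVU s
      rw [map_add, e1, map_sum, Finset.sum_congr rfl (fun i _ => e2 i), hηa, smul_add, Finset.smul_sum]

end K922.LogExist
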