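import Groth.Agent.LogNCD.K922.LogBasis

/-!
# The residue sequence
-/

set_option autoImplicit false

universe u

open CategoryTheory CategoryTheory.Limits AlgebraicGeometry Opposite TopologicalSpace
open scoped TensorProduct
open Groth.Agent.Sga67.Sec Groth.Agent.Sga67.LocBasis

namespace K922.LogSeq

open K922.Tens K922.Quot K922.DSec K922.Coord K922.Chart K922.LogBasis

variable {X S : Scheme.{u}} {f : X ⟶ S} {Ω' : X.Modules} {d : OmegaSh.Der f Ω'} {r : ℕ}
  {D : Fin r → X.IdealSheafData} {n : ℕ}

/-- Equality of sections of a finite product. -/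
theorem pi_ext {r : ℕ} {Q : Fin r → X.Modules} {U : X.Opens} {s t : Sec (∏ᶜ Q) U}
    (h : ∀ i, appS (Pi.π Q i) U s = appS (Pi.π Q i) U t) : s = t := by
  classical
  have h1 : (∑ i, Pi.π Q i ≫ Pi.lift (fun j => if h : i = j then eqToHom (congrArg Q h) else 0)) =
      𝟙 (∏ᶜ Q) := by
    apply Pi.hom_ext
    intro j
    rw [Preadditive.sum_comp, Category.id_comp, Finset.sum_eq_single j]
    · simp
    · intro i _ hij
      simp [hij]
    · simp
  have h2 : ∀ s : Sec (∏ᶜ Q) U, s = ∑ i, appS (Pi.lift
      (fun j => if h : i = j then eqToHom (congrArg Q h) else 0)) U (appS (Pi.π Q i) U s) := by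
    intro s
    have h3 := congrArg (fun φ => appS φ U s) h1
    simp only [appS_sum, appS_id] at h3
    exact h3.symm.trans (Finset.sum_congr rfl fun i _ => appS_comp _ _ U s)
  rw [h2 s, h2 t]
  simp only [h]

theorem appS_lift {r : ℕ} {Q : Fin r → X.Modules} {M : X.Modules} (φ : ∀ i, M ⟶ Q i) {U : X.Opens}
    (s : Sec M U) (i : Fin r) : appS (Pi.π Q i) U (appS (Pi.lift φ) U s) = appS (φ i) U s := by
  rw [← appS_comp, Pi.lift_π]

/-- Over a chart, a log form without residues has no poles. -/
theorem exists_ι_of_res_eq_zero {Λ : LogNCD.LogMod d D} {U : X.affineOpens} {c : Chart f D U.1 n}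
    (B : LogBasis Λ c) (s : Sec Λ.L U.1) (h : ∀ i, appS (Λ.res i) U.1 s = 0) :
    ∃ ω, appS Λ.ι U.1 ω = s := by
  classical
  obtain ⟨a, rfl⟩ := (B.isLocBasis U.1 le_rfl).2 s
  have key : ∀ k, ∃ ω, appS Λ.ι U.1 ω = a k • B.b k := by
    intro k
    by_cases hk : ∃ i, c.e i = some k
    · obtain ⟨i, hi⟩ := hk
      have h1 := h i
      rw [comb_apply, map_sum, Finset.sum_eq_single k, map_smul, res_self, B.res_b i k hi,
        ← cls_eq_smul_one, cls_eq_zero_iff] at h1
      · have h2 := c.ideal i U le_rfl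
        rw [resO_self] at h2
        rw [h2, Ideal.mem_span_singleton'] at h1
        obtain ⟨a', ha'⟩ := h1
        refine ⟨a' • dS d U.1 (c.g i), ?_⟩
        rw [map_smul, ← B.smul_b i k hi, smul_smul, ha']
      · intro j _ hj
        rw [map_smul, res_self, B.res_b_ne i j (by rw [hi]; simpa using fun h => hj h.symm), smul_zero]
      · simp
    · refine ⟨a k • dS d U.1 (c.v k), ?_⟩
      rw [map_smul, ← B.b_none k (fun i hi => hk ⟨i, hi⟩)]
  choose ω hω using key
  refine ⟨∑ k, ω k, ?_⟩
  rw [map_sum, comb_apply]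
  refine Finset.sum_congr rfl fun k _ => ?_
  rw [hω, res_self]

/-- Over a chart, the residues are jointly surjective. -/
theorem exists_of_res {Λ : LogNCD.LogMod d D} {U : X.affineOpens} {c : Chart f D U.1 n}
    (B : LogBasis Λ c) (t : ∀ i, Sec (ClSub.quotMod (D i)) U.1) :
    ∃ s : Sec Λ.L U.1, ∀ i, appS (Λ.res i) U.1 s = t i := by
  classical
  choose α hα using fun i => cls_surjective (D i) U (t i)
  let b' : Fin r → Sec Λ.L U.1 := fun i => (c.e i).elim 0 B.b
  have hb' : ∀ i j, appS (Λ.res j) U.1 (b' i) = if i = j then LogNCD.oneOn (D j) U.1 else 0 := by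
    intro i j
    rcases h : c.e i with _ | k
    · have h1 : b' i = 0 := by simp [b', h]
      rw [h1, map_zero]
      split_ifs with hij
      · subst hij
        symm
        rw [← cls_one, cls_eq_zero_iff]
        have h2 := c.ideal i U le_rfl
        rw [resO_self, c.g_none i h, Ideal.span_singleton_one] at h2
        rw [h2]
        trivial
      · rfl
    · have h1 : b' i = B.b k := by simp [b', h]
      rw [h1]
      split_ifs with hij
      · subst hij
        exact B.res_b i k h
      · exact B.res_b_ne j k (fun hj => hij (c.inj _ _ k h hj))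
  refine ⟨∑ i, α i • b' i, fun j => ?_⟩
  rw [map_sum, Finset.sum_eq_single j, map_smul, hb', if_pos rfl, ← cls_eq_smul_one, hα]
  · intro i _ hij
    rw [map_smul, hb', if_neg hij, smul_zero]
  · simp

/-- **The residue sequence.** -/
theorem shortExact [Smooth f] (hd : AffUniv d) (hD : LogNCD.IsNCD D f) (Λ : LogNCD.LogMod d D)
    (h : Λ.ι ≫ Pi.lift Λ.res = 0) : (ShortComplex.mk Λ.ι (Pi.lift Λ.res) h).ShortExact where
  mono_f := Λ.mono
  exact := by
    apply exact_of_locally
    intro U s hs x hx
    obtain ⟨V, n, c, B, hxV, hV⟩ := exists_logChart hd hD Λ hx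
    refine ⟨V.1, hV, hxV, ?_⟩
    apply exists_ι_of_res_eq_zero B
    intro i
    have h1 := congrArg (appS (Pi.π _ i) U) hs
    have h2 : appS (Λ.res i) U s = 0 := (appS_lift Λ.res s i).symm.trans (h1.trans (map_zero _))
    exact (appS_res (Λ.res i) hV s).trans ((congrArg _ h2).trans (map_zero _))
  epi_g := by
    apply epi_of_locally_surjective
    intro U s x hx
    obtain ⟨V, n, c, B, hxV, hV⟩ := exists_logChart hd hD Λ hx
    refine ⟨V.1, hV, hxV, ?_⟩
    obtain ⟨t, ht⟩ := exists_of_res B (fun i => appS (Pi.π (fun i => ClSub.quotMod (D i)) i) V.1 (res _ hV s))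
    refine ⟨t, ?_⟩
    apply pi_ext
    intro i
    exact (appS_lift Λ.res t i).trans (ht i)

end K922.LogSeq
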