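import Groth.Agent.Htor.H253.CechHyper
import Groth.Agent.LogNCD.K913.QisBasis
import Groth.Agent.CohtopA.Flasque
import Groth.Prelude.Def_CohCx

/-!
# Hypercohomology and restriction to an open subset

For a complex of abelian sheaves `K` on a space, bounded below, and an open `U`: if for `V` in a basis the terms are
acyclic on `V` and `V ∩ U` and `K(V) → K(V ∩ U)` is a quasi-isomorphism, then `H^n(V, K) → H^n(V ∩ U, K)` is
bijective for every open `V`.
-/

set_option autoImplicit false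

universe u

open CategoryTheory CategoryTheory.Limits Opposite TopologicalSpace

namespace K922.OpenRes

open Groth.Agent.Htor.H253.HomCone Groth.Agent.CohtopA.FreeAb

variable {X : TopCat.{u}}

/-- Sections of the terms of a complex of sheaves. -/
abbrev KS (K : CochainComplex (CohTop.Ab X) ℤ) (p : ℤ) (V : Opens X) : Type u := (K.X p).obj.obj (op V)

/-- The differential on sections. -/
def kd (K : CochainComplex (CohTop.Ab X) ℤ) (p q : ℤ) (V : Opens X) : KS K p V →+ KS K q V :=
  ((K.d p q).hom.app (op V)).hom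

/-- Restriction of sections. -/
def kr (K : CochainComplex (CohTop.Ab X) ℤ) (p : ℤ) {V W : Opens X} (h : W ≤ V) : KS K p V →+ KS K p W :=
  ((K.X p).obj.map (homOfLE h).op).hom

/-- A morphism on sections. -/
def kf {K L : CochainComplex (CohTop.Ab X) ℤ} (φ : K ⟶ L) (p : ℤ) (V : Opens X) : KS K p V →+ KS L p V :=
  ((φ.f p).hom.app (op V)).hom

theorem kd_kd (K : CochainComplex (CohTop.Ab X) ℤ) (p q r : ℤ) (V : Opens X) (x : KS K p V) :
    kd K q r V (kd K p q V x) = 0 := by
  have := congrArg (fun ψ => ψ.hom.app (op V)) (K.d_comp_d p q r)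
  exact ConcreteCategory.congr_hom this x

theorem kd_kr (K : CochainComplex (CohTop.Ab X) ℤ) (p q : ℤ) {V W : Opens X} (h : W ≤ V) (x : KS K p V) :
    kd K p q W (kr K p h x) = kr K q h (kd K p q V x) :=
  ConcreteCategory.congr_hom ((K.d p q).hom.naturality (homOfLE h).op) x

theorem kf_kd {K L : CochainComplex (CohTop.Ab X) ℤ} (φ : K ⟶ L) (p q : ℤ) (V : Opens X) (x : KS K p V) :
    kf φ q V (kd K p q V x) = kd L p q V (kf φ p V x) := by
  have := congrArg (fun ψ => ψ.hom.app (op V)) (φ.comm p q)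
  exact (ConcreteCategory.congr_hom this x).symm

theorem kf_kr {K L : CochainComplex (CohTop.Ab X) ℤ} (φ : K ⟶ L) (p : ℤ) {V W : Opens X} (h : W ≤ V)
    (x : KS K p V) : kf φ p W (kr K p h x) = kr L p h (kf φ p V x) :=
  ConcreteCategory.congr_hom ((φ.f p).hom.naturality (homOfLE h).op) x

/-- `K(V) → K(W)` is a quasi-isomorphism, elementwise. -/
def ExRes (K : CochainComplex (CohTop.Ab X) ℤ) {V W : Opens X} (h : W ≤ V) : Prop :=
  ∀ (p q r s : ℤ), p + 1 = q → q + 1 = r → r + 1 = s → ∀ (a : KS K r V) (b : KS K q W), kd K r s V a = 0 →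
    kr K r h a = kd K q r W b → ∃ (x : KS K q V) (z : KS K p W), kd K q r V x = a ∧
      kr K q h x = b + kd K p q W z

/-- `K(V) → L(V)` is a quasi-isomorphism, elementwise. -/
def ExMap {K L : CochainComplex (CohTop.Ab X) ℤ} (φ : K ⟶ L) (V : Opens X) : Prop :=
  ∀ (p q r s : ℤ), p + 1 = q → q + 1 = r → r + 1 = s → ∀ (a : KS K r V) (b : KS L q V), kd K r s V a = 0 →
    kf φ r V a = kd L q r V b → ∃ (x : KS K q V) (z : KS L p V), kd K q r V x = a ∧
      kf φ q V x = b + kd L p q V z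

theorem exRes_of_exMap {K L : CochainComplex (CohTop.Ab X) ℤ} (φ : K ⟶ L) {V W : Opens X} (h : W ≤ V)
    (h1 : ExMap φ V) (h2 : ExMap φ W) (h3 : ExRes K h) : ExRes L h := by
  intro p q r s hpq hqr hrs a b ha hab
  obtain ⟨k, z, hk, hkz⟩ := h1 q r s (s + 1) hqr hrs rfl 0 a (map_zero _) (by rw [map_zero, ha])
  obtain ⟨x1, z1, hx1, hz1⟩ := h2 p q r s hpq hqr hrs (kr K r h k) (b + kr L q h z) (by
    rw [kd_kr, hk, map_zero]) (by
    rw [kf_kr, hkz, map_add, hab, map_add, kd_kr])
  obtain ⟨x2, z2, hx2, hz2⟩ := h3 p q r s hpq hqr hrs k x1 hk hx1.symm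
  refine ⟨kf φ q V x2 - z, z1 + kf φ p W z2, ?_, ?_⟩
  · rw [map_sub, ← kf_kd, hx2, hkz]
    abel
  · rw [map_sub, ← kf_kr, hz2, map_add, hz1, kf_kd, map_add]
    abel

theorem exMap_of_quasiIso {K L : CochainComplex (CohTop.Ab X) ℤ} (φ : K ⟶ L) [QuasiIso φ] (a : ℤ)
    (hK : ∀ i < a, IsZero (K.X i)) (hL : ∀ i < a, IsZero (L.X i)) (V : Opens X)
    (hK' : ∀ i, ExtAcyc (freeAb (Opens.grothendieckTopology X) V) (K.X i))
    (hL' : ∀ i, ExtAcyc (freeAb (Opens.grothendieckTopology X) V) (L.X i)) : ExMap φ V :=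
  fun p q r s hpq hqr hrs u v hu huv =>
    Groth.Agent.Htor.H253.SectCone.exists_of_quasiIso φ a hK hL V hK' hL' p q r s hpq hqr hrs u v hu huv

theorem extAcyc_of_HU (F : CohTop.Ab X) (V : Opens X) (h : ∀ q, Subsingleton (CohTop.HU F (q + 1) V)) :
    ExtAcyc (freeAb (Opens.grothendieckTopology X) V) F := by
  intro q x
  have h1 : Subsingleton (Abelian.Ext (freeAb (Opens.grothendieckTopology X) V) F (q + 1)) := h q
  exact Subsingleton.elim _ _

section T

variable (U : Opens X)

/-- `j_* j^*` on abelian sheaves. -/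
noncomputable abbrev T : CohTop.Ab X ⥤ CohTop.Ab X :=
  CohTop.restrFunctor U ⋙ CohTop.push (CohCx.incl U)

/-- The trace of the open `V` on `U`. -/
def im (V : Opens X) : Opens X :=
  U.isOpenEmbedding.isOpenMap.functor.obj ((Opens.map (CohCx.incl U)).obj V)

theorem im_le (V : Opens X) : im U V ≤ V := by
  rintro _ ⟨x, hx, rfl⟩
  exact hx

theorem im_eq (V : Opens X) : im U V = V ⊓ U := by
  apply le_antisymm
  · rintro _ ⟨x, hx, rfl⟩
    exact ⟨hx, x.2⟩
  · rintro x ⟨h1, h2⟩
    exact ⟨⟨x, h2⟩, h1, rfl⟩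

theorem im_mono {V W : Opens X} (h : W ≤ V) : im U W ≤ im U V := by
  rw [im_eq, im_eq]
  exact inf_le_inf_right _ h

/-- `F ⟶ j_* j^* F`. -/
noncomputable def eta : 𝟭 (CohTop.Ab X) ⟶ T U where
  app F := ⟨{ app := fun W => F.obj.map (homOfLE (im_le U W.unop)).op
              naturality := fun W W' i =>
                ((F.obj.map_comp _ _).symm.trans (congrArg F.obj.map (Subsingleton.elim _ _))).trans
                  (F.obj.map_comp _ _) }⟩
  naturality F G φ := by
    ext : 2
    funext W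
    change φ.hom.app _ ≫ G.obj.map _ = F.obj.map _ ≫ φ.hom.app _
    exact (φ.hom.naturality _).symm

instance : (T U).Additive where

instance (F : CohTop.Ab X) [TopCat.Sheaf.IsFlasque F] : TopCat.Sheaf.IsFlasque ((T U).obj F) where
  epi i := by
    change Epi (F.obj.map _)
    infer_instance

/-- The complex `j_* j^* K`. -/
noncomputable abbrev TK (K : CochainComplex (CohTop.Ab X) ℤ) : CochainComplex (CohTop.Ab X) ℤ :=
  ((T U).mapHomologicalComplex _).obj K

/-- `K ⟶ j_* j^* K`. -/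
noncomputable def etaK (K : CochainComplex (CohTop.Ab X) ℤ) : K ⟶ TK U K where
  f i := (eta U).app (K.X i)
  comm' i j _ := ((eta U).naturality (K.d i j)).symm

/-- The sections of `j_* j^* K` over `V`. -/
theorem kr_etaK (K : CochainComplex (CohTop.Ab X) ℤ) (p : ℤ) (V : Opens X) (x : KS K p V) :
    kf (etaK U K) p V x = kr K p (im_le U V) x := rfl

theorem kr_kr (K : CochainComplex (CohTop.Ab X) ℤ) (p : ℤ) {V W W' : Opens X} (h : W ≤ V) (h' : W' ≤ W)
    (x : KS K p V) : kr K p h' (kr K p h x) = kr K p (h'.trans h) x := by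
  have := (K.X p).obj.map_comp (homOfLE h).op (homOfLE h').op
  exact (ConcreteCategory.congr_hom this x).symm

open K913.QisBasis in
/-- If `K(V) → K(V ∩ U)` is a quasi-isomorphism on a basis then `K ⟶ j_* j^* K` is one. -/
theorem quasiIso_etaK (K : CochainComplex (CohTop.Ab X) ℤ) (𝓑 : Set (Opens X))
    (hB : ∀ (W : Opens X) (x : X), x ∈ W → ∃ V ∈ 𝓑, x ∈ V ∧ V ≤ W)
    (h : ∀ V ∈ 𝓑, ExRes K (im_le U V)) : QuasiIso (etaK U K) := by
  apply quasiIso_of_local
  intro k
  have hn : (ComplexShape.up ℤ).next k = k + 1 := CochainComplex.next ℤ k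
  have hp : (ComplexShape.up ℤ).prev k = k - 1 := CochainComplex.prev ℤ k
  constructor
  · intro W y hy
    change KS K k (im U W) at y
    change kd K k ((ComplexShape.up ℤ).next k) (im U W) y = 0 at hy
    refine cover_of_basis 𝓑 hB W
      (fun V f => ∃ x : KS K k V, kd K k ((ComplexShape.up ℤ).next k) V x = 0 ∧
        ∃ b : KS K ((ComplexShape.up ℤ).prev k) (im U V),
          kr K k (im_le U V) x = kr K k (im_mono U (leOfHom f)) y +
            kd K ((ComplexShape.up ℤ).prev k) k (im U V) b) ?_ ?_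
    · intro V hV f
      rw [hn] at hy
      rw [hn, hp]
      obtain ⟨x, z, hx, hz⟩ := h V hV (k - 1) k (k + 1) (k + 2) (by omega) rfl (by omega) 0
        (kr K k (im_mono U (leOfHom f)) y) (map_zero _) (by rw [map_zero, kd_kr, hy, map_zero])
      exact ⟨x, hx, z, hz⟩
    · rintro V V' f g ⟨x, hx, b, hb⟩
      refine ⟨kr K k (leOfHom g) x, ?_, kr K _ (im_mono U (leOfHom g)) b, ?_⟩
      · rw [kd_kr, hx, map_zero]
      · have := congrArg (kr K k (im_mono U (leOfHom g))) hb
        rw [kr_kr, map_add, kr_kr, ← kd_kr] at this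
        rw [kr_kr]
        exact this
  · intro W x hx b hb
    change KS K k W at x
    change KS K ((ComplexShape.up ℤ).prev k) (im U W) at b
    change kd K k ((ComplexShape.up ℤ).next k) W x = 0 at hx
    change kr K k (im_le U W) x = kd K ((ComplexShape.up ℤ).prev k) k (im U W) b at hb
    refine cover_of_basis 𝓑 hB W
      (fun V f => ∃ b' : KS K ((ComplexShape.up ℤ).prev k) V,
        kd K ((ComplexShape.up ℤ).prev k) k V b' = kr K k (leOfHom f) x) ?_ ?_
    · intro V hV f
      rw [hn] at hx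
      revert b
      rw [hp]
      intro b hb
      obtain ⟨x', z, hx', -⟩ := h V hV (k - 2) (k - 1) k (k + 1) (by omega) (by omega) rfl
        (kr K k (leOfHom f) x) (kr K (k - 1) (im_mono U (leOfHom f)) b) (by rw [kd_kr, hx, map_zero]) (by
          rw [kd_kr, ← hb, kr_kr, kr_kr])
      exact ⟨x', hx'⟩
    · rintro V V' f g ⟨b', hb'⟩
      refine ⟨kr K _ (leOfHom g) b', ?_⟩
      rw [kd_kr, hb', kr_kr]

theorem isZero_TK {K : CochainComplex (CohTop.Ab X) ℤ} {i : ℤ} (h : IsZero (K.X i)) : IsZero ((TK U K).X i) :=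
  (T U).map_isZero h

/-- For a bounded below complex of injectives. -/
theorem exRes_of_injective (I : CochainComplex (CohTop.Ab X) ℤ) (a : ℤ) (hI : ∀ i < a, IsZero (I.X i))
    (hinj : ∀ i, Injective (I.X i)) (𝓑 : Set (Opens X))
    (hB : ∀ (W : Opens X) (x : X), x ∈ W → ∃ V ∈ 𝓑, x ∈ V ∧ V ≤ W)
    (h : ∀ V ∈ 𝓑, ExRes I (im_le U V)) (V : Opens X) : ExRes I (im_le U V) := by
  have hq := quasiIso_etaK U I 𝓑 hB h
  have hfl : ∀ i, TopCat.Sheaf.IsFlasque (I.X i) := fun i => Groth.Agent.CohtopA.Flasque.isFlasque_of_injective _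
  have := exMap_of_quasiIso (etaK U I) a hI (fun i hi => isZero_TK U (hI i hi)) V
    (fun i => extAcyc_of_injective) (fun i => by
      have : TopCat.Sheaf.IsFlasque ((TK U I).X i) := inferInstanceAs (TopCat.Sheaf.IsFlasque ((T U).obj (I.X i)))
      exact extAcyc_of_HU _ _ (fun q => Groth.Agent.CohtopA.Flasque.subsingleton_HU_succ _ _ _))
  exact this

section HDU

variable [HasDerivedCategory.{u} (CohTop.Ab X)]

open Groth.Agent.CohtopB.KInjSect DerivedCategory

theorem hdures_bijective_of_exRes (I : CochainComplex (CohTop.Ab X) ℤ) [I.IsKInjective] {V W : Opens X}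
    (h : W ≤ V) (hex : ExRes I h) (n : ℤ) :
    Function.Bijective (CohCx.HDUres (Q.obj I) n (homOfLE h)) := by
  constructor
  · rw [injective_iff_map_eq_zero]
    intro x hx
    obtain ⟨s, rfl⟩ := secCls_surjective I n V x
    rw [secCls_res, secCls_eq_zero_iff] at hx
    obtain ⟨t, ht⟩ := hx
    rw [secCls_eq_zero_iff]
    obtain ⟨x, z, hx, -⟩ := hex (n - 2) (n - 1) n (n + 1) (by omega) (by omega) rfl s.1 t s.2 ht.symm
    exact ⟨x, hx⟩
  · intro y
    obtain ⟨t, rfl⟩ := secCls_surjective I n W y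
    obtain ⟨x, z, hx, hz⟩ := hex (n - 1) n (n + 1) (n + 2) (by omega) rfl (by omega) 0 t.1 (map_zero _)
      (by rw [map_zero]; exact t.2.symm)
    refine ⟨secCls I n V ⟨x, hx⟩, ?_⟩
    rw [secCls_res, ← sub_eq_zero, ← map_sub, secCls_eq_zero_iff]
    refine ⟨z, ?_⟩
    have : kd I (n - 1) n W z = kr I n h x - t.1 := by rw [hz]; abel
    exact this

/-- Transport of the restriction maps along an isomorphism. -/
theorem hdures_bijective_of_iso {K L : DerivedCategory (CohTop.Ab X)} (e : K ≅ L) {V W : Opens X} (h : W ≤ V)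
    (n : ℤ) (hL : Function.Bijective (CohCx.HDUres L n (homOfLE h))) :
    Function.Bijective (CohCx.HDUres K n (homOfLE h)) := by
  let c : ∀ V : Opens X, CohCx.HDU K n V ≃ CohCx.HDU L n V := fun V =>
    { toFun := fun x => x ≫ (shiftFunctor _ n).map e.hom
      invFun := fun x => x ≫ (shiftFunctor _ n).map e.inv
      left_inv := fun x => by simp [← Functor.map_comp]
      right_inv := fun x => by simp [← Functor.map_comp] }
  have hc : ∀ x, c W (CohCx.HDUres K n (homOfLE h) x) = CohCx.HDUres L n (homOfLE h) (c V x) := by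
    intro x
    exact Category.assoc _ _ _
  have h1 : (CohCx.HDUres K n (homOfLE h) : _ → _) = (c W).symm ∘ CohCx.HDUres L n (homOfLE h) ∘ c V := by
    funext x
    rw [Function.comp_apply, Function.comp_apply, ← hc, Equiv.symm_apply_apply]
  rw [h1]
  exact (c W).symm.bijective.comp (hL.comp (c V).bijective)

/-- **Restriction of hypercohomology to an open subset.** -/
theorem hdures_bijective (K : CochainComplex (CohTop.Ab X) ℤ) (a : ℤ) (hK : ∀ i < a, IsZero (K.X i))
    (𝓑 : Set (Opens X)) (hB : ∀ (W : Opens X) (x : X), x ∈ W → ∃ V ∈ 𝓑, x ∈ V ∧ V ≤ W)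
    (hac : ∀ V ∈ 𝓑, ∀ i q, Subsingleton (CohTop.HU (K.X i) (q + 1) V))
    (hac' : ∀ V ∈ 𝓑, ∀ i q, Subsingleton (CohTop.HU (K.X i) (q + 1) (V ⊓ U)))
    (h : ∀ V ∈ 𝓑, ∀ W (hW : W ≤ V), W = V ⊓ U → ExRes K hW) {V W : Opens X} (hWV : W ≤ V) (hW : W = V ⊓ U)
    (n : ℤ) : Function.Bijective (CohCx.HDUres (Q.obj K) n (homOfLE hWV)) := by
  obtain ⟨I, φ, hφ, hI, hI', haI⟩ := Groth.Agent.Htor.H253.CechHyper.exists_injective_resolution K a hK
  have hexI : ∀ V ∈ 𝓑, ExRes I (im_le U V) := by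
    intro V hV
    refine exRes_of_exMap φ (im_le U V) ?_ ?_ (h V hV _ _ (im_eq U V))
    · exact exMap_of_quasiIso φ a hK haI V (fun i => extAcyc_of_HU _ _ (hac V hV i))
        (fun i => extAcyc_of_injective)
    · refine exMap_of_quasiIso φ a hK haI _ (fun i => extAcyc_of_HU _ _ ?_) (fun i => extAcyc_of_injective)
      rw [im_eq]
      exact hac' V hV i
  have h1 := exRes_of_injective U I a haI hI 𝓑 hB hexI V
  apply hdures_bijective_of_iso (asIso (DerivedCategory.Q.map φ)) hWV n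
  apply hdures_bijective_of_exRes
  have h2 : W = im U V := by rw [im_eq, hW]
  subst h2
  exact h1

end HDU

end T

end K922.OpenRes
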