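import Groth.Agent.LogNCD.K922.Tens

/-!
# The quotient `O_{D}` and the ideal of a closed subscheme on sections; linearity of residues
-/

set_option autoImplicit false

universe u

open CategoryTheory CategoryTheory.Limits AlgebraicGeometry Opposite TopologicalSpace
open scoped TensorProduct
open Groth.Agent.Sga67.Sec Groth.Agent.Sga67.LocBasis Groth.Agent.Sga67.ExtSheaf
  Groth.Agent.Sga67.TensorOps

namespace K922.Quot

variable {X : Scheme.{u}}

/-- A function on `U` as a section of the structure module. -/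
noncomputable def fnL (X : Scheme.{u}) (U : X.Opens) : Γ(X, U) →ₗ[Γ(X, U)] Sec (Coh.structureModule X) U where
  toFun a := a
  map_add' _ _ := rfl
  map_smul' _ _ := rfl

theorem res_fnL {U V : X.Opens} (h : V ≤ U) (a : Γ(X, U)) :
    res (Coh.structureModule X) h (fnL X U a) = fnL X V (resO X h a) := rfl

theorem fnL_eq_strSect (U : X.Opens) (a : Γ(X, U)) : fnL X U a = OmegaSh.strSect X U a := rfl

/-- The class of a function in `O_D`. -/
noncomputable def cls (I : X.IdealSheafData) (U : X.Opens) : Γ(X, U) →ₗ[Γ(X, U)] Sec (ClSub.quotMod I) U :=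
  (appS (ClSub.toSubscheme I) U) ∘ₗ fnL X U

theorem cls_apply (I : X.IdealSheafData) (U : X.Opens) (a : Γ(X, U)) :
    cls I U a = appS (ClSub.toSubscheme I) U (fnL X U a) := rfl

theorem cls_one (I : X.IdealSheafData) (U : X.Opens) : cls I U 1 = LogNCD.oneOn I U := rfl

theorem cls_eq_smul_one (I : X.IdealSheafData) (U : X.Opens) (a : Γ(X, U)) :
    cls I U a = a • LogNCD.oneOn I U := by
  rw [← cls_one, ← map_smul, smul_eq_mul, mul_one]

theorem res_cls (I : X.IdealSheafData) {U V : X.Opens} (h : V ≤ U) (a : Γ(X, U)) :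
    res _ h (cls I U a) = cls I V (resO X h a) := by
  rw [cls_apply, cls_apply, ← appS_res, res_fnL]

theorem res_oneOn (I : X.IdealSheafData) {U V : X.Opens} (h : V ≤ U) :
    res _ h (LogNCD.oneOn I U) = LogNCD.oneOn I V := by
  rw [← cls_one, res_cls, map_one, cls_one]

theorem cls_eq_zero_iff (I : X.IdealSheafData) (U : X.affineOpens) (a : Γ(X, U.1)) :
    cls I U.1 a = 0 ↔ a ∈ I.ideal U :=
  Groth.Agent.CohqA.IdealMod.toSubscheme_app_eq_zero_iff I U a

theorem cls_surjective (I : X.IdealSheafData) (U : X.affineOpens) : Function.Surjective (cls I U.1) :=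
  Groth.Agent.CohqA.IdealMod.toSubscheme_app_surjective I U

theorem exists_affine_nhd {U : X.Opens} {x : X} (hx : x ∈ U) :
    ∃ V : X.affineOpens, V.1 ≤ U ∧ x ∈ V.1 := by
  obtain ⟨_, ⟨V, hV, rfl⟩, hxV, hVU⟩ := X.isBasis_affineOpens.exists_subset_of_mem_open hx U.isOpen
  exact ⟨⟨V, hV⟩, hVU, hxV⟩

instance epi_toSubscheme (I : X.IdealSheafData) : Epi (ClSub.toSubscheme I) := by
  apply epi_of_locally_surjective
  intro U s x hx
  obtain ⟨V, hV, hxV⟩ := exists_affine_nhd hx
  obtain ⟨a, ha⟩ := cls_surjective I V (res _ hV s)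
  exact ⟨V.1, hV, hxV, OmegaSh.strSect X V.1 a, ha⟩

instance mono_idealModι (I : X.IdealSheafData) : Mono (ClSub.idealModι I) :=
  (inferInstance : Mono (kernel.ι (ClSub.toSubscheme I)))

/-- `0 → 𝓘 → O_X → O_D → 0`. -/
noncomputable def ses (I : X.IdealSheafData) : ShortComplex X.Modules :=
  ShortComplex.mk (ClSub.idealModι I) (ClSub.toSubscheme I) (kernel.condition _)

theorem ses_shortExact (I : X.IdealSheafData) : (ses I).ShortExact where
  exact := ShortComplex.exact_kernel (ClSub.toSubscheme I)
  mono_f := mono_idealModι I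
  epi_g := epi_toSubscheme I

/-- A local section of the ideal, as a function. -/
theorem appS_idealModι (I : X.IdealSheafData) (U : X.Opens) (s : Sec (ClSub.idealMod I) U) :
    appS (ClSub.idealModι I) U s = fnL X U (OmegaSh.idealSect I U s) := rfl

theorem cls_idealSect (I : X.IdealSheafData) (U : X.Opens) (s : Sec (ClSub.idealMod I) U) :
    cls I U (OmegaSh.idealSect I U s) = 0 := by
  rw [cls_apply, ← appS_idealModι, ← appS_comp]
  have h : ClSub.idealModι I ≫ ClSub.toSubscheme I = 0 := kernel.condition _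
  rw [h, appS_zero]

theorem idealSect_injective (I : X.IdealSheafData) (U : X.Opens) :
    Function.Injective (OmegaSh.idealSect I U) :=
  Groth.Agent.CohqA.IdealMod.idealModι_app_injective I U

theorem idealSect_smul (I : X.IdealSheafData) (U : X.Opens) (r : Γ(X, U)) (s : Sec (ClSub.idealMod I) U) :
    OmegaSh.idealSect I U (r • s) = r * OmegaSh.idealSect I U s :=
  (appS (ClSub.idealModι I) U).map_smul r s

theorem idealSect_res (I : X.IdealSheafData) {U V : X.Opens} (h : V ≤ U) (s : Sec (ClSub.idealMod I) U) :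
    OmegaSh.idealSect I V (res _ h s) = resO X h (OmegaSh.idealSect I U s) :=
  appS_res (ClSub.idealModι I) h s

theorem exists_idealSect_iff (I : X.IdealSheafData) (U : X.affineOpens) (a : Γ(X, U.1)) :
    (∃ s : Sec (ClSub.idealMod I) U.1, OmegaSh.idealSect I U.1 s = a) ↔ a ∈ I.ideal U :=
  Groth.Agent.CohqA.IdealMod.exists_idealModι_app_iff I U a

/-- The action of a function on a section of `O_D` is multiplication by its class. -/
theorem smul_eq_zero_of_cls (I : X.IdealSheafData) (U : X.Opens) (a : Γ(X, U)) (ha : cls I U a = 0)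
    (t : Sec (ClSub.quotMod I) U) : a • t = 0 := by
  have h : ∀ (b : Γ(I.subscheme, I.subschemeι ⁻¹ᵁ U)), (I.subschemeι.app U).hom a * b = 0 := by
    intro b
    have : (I.subschemeι.app U).hom a = 0 := ha
    rw [this, zero_mul]
  exact h t

/-- A submonoid-type statement: `a • w = 0` on a tensor product if `a` kills the right factor. -/
theorem smul_tmul_eq_zero {R M N : Type*} [CommRing R] [AddCommGroup M] [AddCommGroup N] [Module R M]
    [Module R N] (a : R) (h : ∀ n : N, a • n = 0) (w : M ⊗[R] N) : a • w = 0 := by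
  induction w using TensorProduct.induction_on with
  | zero => simp
  | tmul m n => rw [← TensorProduct.tmul_smul, h, TensorProduct.tmul_zero]
  | add x y hx hy => rw [smul_add, hx, hy, add_zero]

theorem smul_tensor_eq_zero (I : X.IdealSheafData) (E : X.Modules) (U : X.Opens) (a : Γ(X, U))
    (ha : cls I U a = 0) (t : Sec (CohB1.tensorMod E (ClSub.quotMod I)) U) : a • t = 0 := by
  apply eq_of_locally
  intro x hx
  obtain ⟨V, hV, hxV, w, hw⟩ := tau_locsurj E (ClSub.quotMod I) t x hx
  refine ⟨V, hV, hxV, ?_⟩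
  rw [res_smul, ← hw, map_zero, ← map_smul]
  have hc : cls I V (resO X hV a) = 0 := by rw [← res_cls, ha, map_zero]
  rw [smul_tmul_eq_zero _ (smul_eq_zero_of_cls I V _ hc), map_zero]

end K922.Quot
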