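import Groth.Agent.LogNCD.K922.Coord
import Groth.Agent.UnramA.SmoothFibreDim
import Groth.Agent.Fga.DimCut
import Groth.Agent.FlatB.AffSpaceSmooth

/-!
# The number of étale coordinates is the dimension
-/

set_option autoImplicit false

universe u

open CategoryTheory CategoryTheory.Limits AlgebraicGeometry Opposite TopologicalSpace
open Groth.Agent Groth.Agent.Sga67.Sec

namespace K922.RankDim

open K922.Coord

theorem isStandardSmooth_comp {R B : Type u} [CommRing R] [CommRing B] (φ : R →+* B) {m : ℕ} (v : Fin m → B)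
    (h : (MvPolynomial.eval₂Hom φ v).Etale) : φ.IsStandardSmoothOfRelativeDimension m := by
  have h1 : (MvPolynomial.eval₂Hom φ v).IsStandardSmoothOfRelativeDimension 0 := by
    rwa [← RingHom.etale_iff_isStandardSmoothOfRelativeDimension_zero]
  have h2 : (MvPolynomial.C : R →+* MvPolynomial (Fin m) R).IsStandardSmoothOfRelativeDimension m := by
    have := RingHom.isStandardSmoothOfRelativeDimension_algebraMap (R := R) (S := MvPolynomial (Fin m) R) (n := m)
    rw [← MvPolynomial.algebraMap_eq, this]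
    exact Groth.Agent.FlatB.AffSpaceSmooth.isStandardSmoothOfRelativeDimension R m
  have h3 := RingHom.IsStandardSmoothOfRelativeDimension.comp h1 h2
  have h4 : (MvPolynomial.eval₂Hom φ v).comp MvPolynomial.C = φ := by
    ext r
    simp
  rw [h4] at h3
  convert h3 using 1
  omega

theorem rank_eq (k : Type u) [Field k] {X : Scheme.{u}} (f : X ⟶ Spec (CommRingCat.of k)) [Smooth f]
    [IrreducibleSpace X] (n : ℕ) (hn : topologicalKrullDim X = n) {U : X.Opens} {m : ℕ} (v : Fin m → Γ(X, U))
    (hv : IsCoord f U v) (x : X) (hx : x ∈ U) : m = n := by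
  obtain ⟨W, hWU, V, e, -, hxW, het⟩ := hv x U le_rfl hx
  obtain ⟨V, hV⟩ := V
  have hVtop : V = ⊤ := by
    have hU' : f x ∈ V := e hxW
    ext y
    simp only [Opens.coe_top, Set.mem_univ, iff_true]
    have : Subsingleton ↥(Spec (CommRingCat.of k)) := inferInstanceAs (Subsingleton (PrimeSpectrum k))
    rwa [Subsingleton.elim y (f x)]
  subst hVtop
  have hss := isStandardSmooth_comp _ _ het
  let e1 : k ≃+* Γ(Spec (CommRingCat.of k), ⊤) := (Scheme.ΓSpecIso (CommRingCat.of k)).symm.commRingCatIsoToRingEquiv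
  have hfield : IsField Γ(Spec (CommRingCat.of k), ⊤) := e1.symm.isField (Field.toIsField k)
  let := hfield.toField
  algebraize [(f.appLE ⊤ W.1 e).hom]
  have : Algebra.IsStandardSmoothOfRelativeDimension m Γ(Spec (CommRingCat.of k), ⊤) Γ(X, W.1) := hss
  have : Nonempty W.1 := ⟨⟨x, hxW⟩⟩
  have : Nontrivial Γ(X, W.1) := inferInstance
  have h1 : ringKrullDim Γ(X, W.1) = m := Ega4B.DimFT.ringKrullDim_eq_of_forall_isMaximal m fun P _ ↦
    UnramA.SmoothDim.height_eq_of_isStandardSmooth Γ(Spec (CommRingCat.of k), ⊤) Γ(X, W.1) m P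
  rw [← UnramA.SmoothFibreDim.topologicalKrullDim_affineOpen W.2] at h1
  let _ : X.Over (Spec (CommRingCat.of k)) := ⟨f⟩
  have hft : LocallyOfFiniteType (X ↘ (Spec (CommRingCat.of k))) := inferInstanceAs (LocallyOfFiniteType f)
  have h2 := Groth.Agent.S1618.result k X W.1 ⟨x, hxW⟩
  have h3 : ((m : ℕ) : WithBot ℕ∞) = n := by
    rw [← h1, ← hn]
    exact h2
  exact_mod_cast h3

end K922.RankDim
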