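import Groth.Agent.LogNCD.K922.SubLog

/-!
# The residue sequence along one component
-/

set_option autoImplicit false

universe u

open CategoryTheory CategoryTheory.Limits AlgebraicGeometry Opposite TopologicalSpace
open scoped TensorProduct
open Groth.Agent.Sga67.Sec Groth.Agent.Sga67.LocBasis

namespace K922.SubSeq

open K922.Tens K922.Quot K922.DSec K922.Coord K922.Chart K922.LogBasis K922.LogSeq K922.Frac K922.SubLog

variable {X S : Scheme.{u}} {f : X ⟶ S} {Ω' : X.Modules} {d : OmegaSh.Der f Ω'} {r r' : ℕ}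
  {D : Fin r → X.IdealSheafData} {D' : Fin r' → X.IdealSheafData} {φ : Fin r' → Fin r} {n : ℕ}

/-- The inclusion on the basis. -/
theorem appS_b {Λ : LogNCD.LogMod d D} {Λ' : LogNCD.LogMod d D'} {U : X.Opens} {c : Chart f D U n}
    (hφ : Function.Injective φ) (hD' : ∀ i, D' i = D (φ i)) (B : LogBasis Λ c)
    (B' : LogBasis Λ' (subChart c hφ hD')) {κ : Λ'.L ⟶ Λ.L} (hκ : Λ'.ι ≫ κ = Λ.ι) (k : Fin n) :
    (∀ i, c.e (φ i) = some k → appS κ U (B'.b k) = B.b k) ∧
    ((∀ i, c.e (φ i) ≠ some k) → appS κ U (B'.b k) = appS Λ.ι U (dS d U (c.v k))) := by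
  constructor
  · intro i hi
    rw [← sub_eq_zero]
    have htf' := tf_of_isLocBasis B.isLocBasis (c.isReg_g (φ i))
    apply htf'.self
    have h1 : c.g (φ i) • B'.b k = appS Λ'.ι U (dS d U (c.g (φ i))) := B'.smul_b i k hi
    rw [smul_sub, ← map_smul, h1, B.smul_b (φ i) k hi, ← appS_comp, hκ, sub_self]
  · intro hi
    have h1 : B'.b k = appS Λ'.ι U (dS d U (c.v k)) := B'.b_none k hi
    rw [h1, ← appS_comp, hκ]

/-- The inclusion of the log modules of a subfamily is a monomorphism. -/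
theorem mono_sub [Smooth f] (hd : AffUniv d) (hD : LogNCD.IsNCD D f) (hφ : Function.Injective φ)
    (hD' : ∀ i, D' i = D (φ i)) (Λ : LogNCD.LogMod d D) (Λ' : LogNCD.LogMod d D') {κ : Λ'.L ⟶ Λ.L}
    (hκ : Λ'.ι ≫ κ = Λ.ι) : Mono κ := by
  apply mono_of_locally_injective
  intro x O hx
  obtain ⟨U, n, c, B, hxU, hU⟩ := exists_logChart hd hD Λ hx
  obtain ⟨B'⟩ := exists_logBasis hd Λ' (subChart c hφ hD')
  refine ⟨U.1, hU, hxU, fun s hs => ?_⟩
  have htf := tf_of_isLocBasis B'.isLocBasis c.isReg_prod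
  apply htf.self
  obtain ⟨ω, t, h1, h2⟩ := exists_smul_mem hφ hD' B B' le_rfl s
  rw [resO_self] at h1
  have h3 : appS Λ.ι U.1 ω = 0 := by
    rw [← hκ, appS_comp, h1, map_smul, hs, smul_zero]
  have h4 : ω = 0 := ι_injective Λ U.1 (h3.trans (map_zero _).symm)
  rw [← h1, h4, map_zero]

/-- **The residue sequence along one component.** -/
theorem shortExact [Smooth f] (hd : AffUniv d) (hD : LogNCD.IsNCD D f) (hφ : Function.Injective φ)
    (hD' : ∀ i, D' i = D (φ i)) (i₀ : Fin r) (h0 : ∀ i, i = i₀ ∨ ∃ i', φ i' = i) (h0' : ∀ i', φ i' ≠ i₀)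
    (Λ : LogNCD.LogMod d D) (Λ' : LogNCD.LogMod d D') {κ : Λ'.L ⟶ Λ.L}
    (hκ : Λ'.ι ≫ κ = Λ.ι) (h : κ ≫ Λ.res i₀ = 0) : (ShortComplex.mk κ (Λ.res i₀) h).ShortExact where
  mono_f := mono_sub hd hD hφ hD' Λ Λ' hκ
  exact := by
    apply exact_of_locally
    intro O s hs x hx
    obtain ⟨U, n, c, B, hxU, hU⟩ := exists_logChart hd hD Λ hx
    obtain ⟨B'⟩ := exists_logBasis hd Λ' (subChart c hφ hD')
    refine ⟨U.1, hU, hxU, ?_⟩
    obtain ⟨a, ha⟩ := (B.isLocBasis U.1 le_rfl).2 (res Λ.L hU s)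
    have hs' : appS (Λ.res i₀) U.1 (comb B.b le_rfl a) = 0 :=
      (congrArg _ ha).trans ((appS_res (Λ.res i₀) hU s).trans ((congrArg _ hs).trans (map_zero _)))
    have key : ∀ k, ∃ t : Sec Λ'.L U.1, appS κ U.1 t = a k • B.b k := by
      intro k
      by_cases hk : ∃ i, c.e (φ i) = some k
      · obtain ⟨i, hi⟩ := hk
        exact ⟨a k • B'.b k, by rw [map_smul, (appS_b hφ hD' B B' hκ k).1 i hi]⟩
      · by_cases hk' : c.e i₀ = some k
        · rw [comb_apply, map_sum, Finset.sum_eq_single k, map_smul, res_self, B.res_b i₀ k hk',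
            ← cls_eq_smul_one, cls_eq_zero_iff] at hs'
          · have h2 := c.ideal i₀ U le_rfl
            rw [resO_self] at h2
            rw [h2, Ideal.mem_span_singleton'] at hs'
            obtain ⟨a', ha'⟩ := hs'
            refine ⟨a' • B'.b k, ?_⟩
            rw [map_smul, (appS_b hφ hD' B B' hκ k).2 (fun i hi => hk ⟨i, hi⟩), ← ha', mul_smul,
              B.smul_b i₀ k hk', c.g_some i₀ k hk']
          · intro j _ hj
            rw [map_smul, res_self, B.res_b_ne i₀ j (by rw [hk']; simpa using fun h => hj h.symm), smul_zero]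
          · simp
        · refine ⟨a k • B'.b k, ?_⟩
          rw [map_smul, (appS_b hφ hD' B B' hκ k).2 (fun i hi => hk ⟨i, hi⟩)]
          rw [B.b_none k]
          intro i hi
          rcases h0 i with rfl | ⟨i', rfl⟩
          · exact hk' hi
          · exact hk ⟨i', hi⟩
    choose t ht using key
    refine ⟨∑ k, t k, ?_⟩
    refine Eq.trans ?_ ha
    change appS κ U.1 (∑ k, t k) = _
    rw [map_sum, comb_apply]
    refine Finset.sum_congr rfl fun k _ => ?_
    rw [ht, res_self]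
  epi_g := by
    classical
    apply epi_of_locally_surjective
    intro O s x hx
    obtain ⟨U, n, c, B, hxU, hU⟩ := exists_logChart hd hD Λ hx
    refine ⟨U.1, hU, hxU, ?_⟩
    obtain ⟨t, ht⟩ := exists_of_res B (Function.update (fun _ => 0) i₀ (res _ hU s))
    refine ⟨t, ?_⟩
    have := ht i₀
    rwa [Function.update_self] at this

end K922.SubSeq
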