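import Groth.Prelude.Def_LogNCD2
import Groth.Agent.Sga67.TensorOps
import Groth.Agent.Ega1.SubSheaf
import Groth.Agent.CohqA.IdealMod

/-!
# Section calculus for tensor products in the vocabulary of the log connections

Bridges between `SecTwist.tmul`, `KoszTw.tensorMap` and the toolkit of `Groth.Agent.Sga67.Sec`.
-/

set_option autoImplicit false

universe u

open CategoryTheory CategoryTheory.Limits AlgebraicGeometry Opposite TopologicalSpace
open scoped TensorProduct
open Groth.Agent.Sga67.Sec Groth.Agent.Sga67.LocBasis Groth.Agent.Sga67.ExtSheaf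
  Groth.Agent.Sga67.TensorOps

namespace K922.Tens

variable {X : Scheme.{u}}

theorem tmul_eq_tau (M N : X.Modules) (U : X.Opens) (m : Sec M U) (n : Sec N U) :
    SecTwist.tmul M N U m n = tau M N U (m ⊗ₜ[Γ(X, U)] n) := rfl

theorem tensorMap_id_left (M : X.Modules) {N N' : X.Modules} (g : N ⟶ N') :
    KoszTw.tensorMap (𝟙 M) g = tmap M g := (KoszTw.tensorBi_obj_map M g).symm

theorem tensorMap_tau {M M' N N' : X.Modules} (f : M ⟶ M') (g : N ⟶ N') (U : X.Opens)
    (t : Sec M U ⊗[Γ(X, U)] Sec N U) :
    appS (KoszTw.tensorMap f g) U (tau M N U t) =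
      tau M' N' U (TensorProduct.map (appS f U) (appS g U) t) := by
  induction t using TensorProduct.induction_on with
  | zero => simp
  | tmul m n => exact KoszTw.tensorMap_tmul f g U m n
  | add a b ha hb => simp only [map_add, ha, hb]

/-- Applying a morphism of underlying abelian sheaves on sections. -/
theorem secApp_map {M N : X.Modules} (f : M ⟶ N) (U : X.Opens) (s : Sec M U) :
    ConnSh.secApp ((SheafOfModules.toSheaf X.ringCatSheaf).map f) U s = appS f U s := rfl

theorem secApp_comp {M N K : X.Modules} (f : Coh.toAb M ⟶ Coh.toAb N) (g : Coh.toAb N ⟶ Coh.toAb K)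
    (U : X.Opens) (s : Sec M U) :
    ConnSh.secApp (f ≫ g) U s = ConnSh.secApp g U (ConnSh.secApp f U s) := rfl

theorem secApp_res {M N : X.Modules} (f : Coh.toAb M ⟶ Coh.toAb N) {U V : X.Opens} (h : V ≤ U)
    (s : Sec M U) : ConnSh.secApp f V (res M h s) = res N h (ConnSh.secApp f U s) :=
  congr($(f.hom.naturality (homOfLE h).op) s)

theorem secApp_ext {M N : X.Modules} {f g : Coh.toAb M ⟶ Coh.toAb N}
    (H : ∀ (U : X.Opens) (s : Sec M U), ConnSh.secApp f U s = ConnSh.secApp g U s) : f = g := by
  ext U s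
  exact H U.unop s

/-- A map of abelian sheaves which is linear on sections comes from a map of modules. -/
theorem exists_of_linear {M N : X.Modules} (f : Coh.toAb M ⟶ Coh.toAb N)
    (H : ∀ (U : X.Opens) (r : Γ(X, U)) (s : Sec M U),
      ConnSh.secApp f U (r • s) = r • ConnSh.secApp f U s) :
    ∃ g : M ⟶ N, (SheafOfModules.toSheaf X.ringCatSheaf).map g = f := by
  refine ⟨Groth.Agent.Ega1.SubSheaf.homMk (fun U => ConnSh.secApp f U) ?_ ?_, ?_⟩
  · intro U V h s
    exact secApp_res f h s
  · intro U r s
    exact H U r s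
  · apply secApp_ext
    intro U s
    rfl

end K922.Tens
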