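import Groth.Agent.LogNCD.K922.RankDim
import Groth.Agent.LogNCD.K913.HasCharts
import Groth.Agent.LogNCD.K913.TermLoc
import Groth.Agent.Ega2.Tens

/-!
# The terms of a logarithmic de Rham complex beyond the dimension vanish
-/

set_option autoImplicit false

universe u

open CategoryTheory CategoryTheory.Limits AlgebraicGeometry Opposite TopologicalSpace
open scoped TensorProduct
open Groth.Agent.Sga67.Sec Groth.Agent.Sga67.LocBasis

namespace K922.TermZero

open K913.Chart K913.CxLoc K922.Coord K922.Chart K922.LogBasis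

theorem isZero_of_sec {X : Scheme.{u}} {M : X.Modules} (h : ∀ (U : X.Opens) (s : Sec M U), s = 0) : IsZero M := by
  rw [IsZero.iff_id_eq_zero]
  apply hom_ext
  intro U s
  rw [h U s, map_zero, map_zero]

theorem isZero_tensorMod {X : Scheme.{u}} {M : X.Modules} (hM : IsZero M) (N : X.Modules) :
    IsZero (CohB1.tensorMod M N) := by
  apply isZero_of_sec
  intro U s
  apply eq_of_locally
  intro x hx
  obtain ⟨V, hV, hxV, t, ht⟩ := tau_locsurj M N s x hx
  refine ⟨V, hV, hxV, ?_⟩
  have h0 : ∀ m : Sec M V, m = 0 := by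
    intro m
    have h1 : 𝟙 M = 0 := hM.eq_of_src _ _
    have h2 := congrArg (fun φ => appS φ V m) h1
    simpa using h2
  have h1 : t = 0 := by
    induction t using TensorProduct.induction_on with
    | zero => rfl
    | tmul m n => rw [h0 m, TensorProduct.zero_tmul]
    | add a b ha hb =>
      have : Subsingleton (Sec M V ⊗[Γ(X, V)] Sec N V) := by
        refine ⟨fun y z => ?_⟩
        have key : ∀ y : Sec M V ⊗[Γ(X, V)] Sec N V, y = 0 := by
          intro y
          induction y using TensorProduct.induction_on with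
          | zero => rfl
          | tmul m n => rw [h0 m, TensorProduct.zero_tmul]
          | add a b ha hb => rw [ha, hb, add_zero]
        rw [key y, key z]
      exact Subsingleton.elim _ _
  rw [map_zero, ← ht, h1, map_zero]

theorem isZero_toAb {X : Scheme.{u}} {M : X.Modules} (hM : IsZero M) : IsZero (Coh.toAb M) :=
  (SheafOfModules.toSheaf X.ringCatSheaf).map_isZero hM

variable (k : Type u) [Field k] {X : Scheme.{u}} {f : X ⟶ Spec (CommRingCat.of k)} [Smooth f]
  [IrreducibleSpace X] (n : ℕ) (hn : topologicalKrullDim X = n)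
  {Ω' : X.Modules} {d : OmegaSh.Der f Ω'} (hd : OmegaSh.IsUniversal d) {r : ℕ}
  {D : Fin r → X.IdealSheafData} (hD : LogNCD.IsNCD D f) (Λ : LogNCD.LogMod d D)

include hn hd hD in
theorem exists_ch_rank {O : X.Opens} {x : X} (hx : x ∈ O) :
    ∃ (U : X.affineOpens) (C : Ch Λ U), x ∈ U.1 ∧ U.1 ≤ O ∧ C.n = n := by
  obtain ⟨U, m, c, B, hxU, hU⟩ := exists_logChart (K922.Univ.affUniv hd) hD Λ hx
  have hm : m = n := K922.RankDim.rank_eq k f n hn c.v c.coord x hxU
  exact ⟨U, K913.HasCharts.ch c B, hxU, hU, hm⟩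

include hn hd hD in
/-- The terms in degrees beyond the dimension vanish. -/
theorem isZero_term {E : X.Modules} {nabla : Coh.toAb E ⟶ Coh.toAb (CohB1.tensorMod E Λ.L)}
    (K : ConnSh.Cx (LogNCD.der Λ) E nabla) (p : ℕ) (hp : n < p) : IsZero (K.term p) := by
  apply isZero_of_sec
  intro O s
  apply eq_of_locally
  intro x hx
  obtain ⟨U, C, hxU, hU, hC⟩ := exists_ch_rank k n hn hd hD Λ hx
  refine ⟨U.1, hU, hxU, ?_⟩
  have h1 : Subsingleton ↥(⋀[Γ(X, U.1)]^p (Sec Λ.L U.1)) := by
    let B := (C.isLocBasis.basis (le_refl U.1)).exteriorPower p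
    have : IsEmpty (Set.powersetCard (Fin C.n) p) := by
      refine ⟨fun s => ?_⟩
      have h2 := s.2
      rw [Set.powersetCard.mem_iff] at h2
      have h3 := Finset.card_le_univ s.1
      rw [Fintype.card_fin, h2] at h3
      omega
    exact B.repr.toEquiv.subsingleton
  have h2 : ∀ y : PU E Λ.L p U, y = 0 := by
    intro y
    induction y using TensorProduct.induction_on with
    | zero => rfl
    | tmul m η => rw [Subsingleton.elim η 0, TensorProduct.tmul_zero]
    | add a b ha hb => rw [ha, hb, add_zero]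
  apply (K913.CxLoc.lo K p U).injective
  rw [h2 (K913.CxLoc.lo K p U _), h2 (K913.CxLoc.lo K p U _)]

end K922.TermZero
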