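import Groth.Agent.LogNCD.K922.VanTop
import Groth.Agent.Sga2lef.H24.ToPn
import Groth.Agent.Ega2.AmpleVery
import Groth.Agent.S10934
import Groth.Agent.S1535
import Groth.Agent.Ega4A.RegCM
import Groth.Agent.Fga.DimCut

/-!
# Vanishing of cohomology of negative twists on a smooth projective scheme
-/

set_option autoImplicit false

universe u

open CategoryTheory CategoryTheory.Limits AlgebraicGeometry Opposite TopologicalSpace
open Groth.Agent

namespace K922.VanBot

open Groth.Agent.Fga.PicMon Groth.Agent.PerfB.TwistDer Groth.Agent.Sga2lef.H24.ToPn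

/-- **Negative vanishing.** `X` smooth irreducible proper over `k` of dimension `n`, `A` ample: there is `m > 0`
such that for finitely many finite locally free modules `F` and any module `J` with `J ⊗ A^{mQ} ≅ O`, `Q` large,
`H^j(X, F ⊗ J) = 0` for `j < n`. -/
theorem exists_negative (k : Type u) [Field k] (X : Scheme.{u}) [X.Over (Spec (CommRingCat.of k))]
    [IsProper (X ↘ Spec (CommRingCat.of k))] [Smooth (X ↘ Spec (CommRingCat.of k))] [IrreducibleSpace X] (n : ℕ)
    (hn : topologicalKrullDim X = n) (A : X.Modules) (hA : CohB1.IsAmple A) :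
    ∃ m : ℕ, 0 < m ∧ ∀ F : X.Modules, FlatMod.IsFinLocFree F → ∃ q₀ : ℕ, ∀ q : ℕ, q₀ ≤ q → ∀ J : X.Modules,
      mc A ^ (m * q) * mc J = 1 → ∀ j : ℕ, j < n → Subsingleton (Coh.HH X (CohB1.tensorMod F J) j) := by
  obtain ⟨n₀, hn₀⟩ := Groth.Agent.Ega2.AmpleVery.exists_forall_isRelVeryAmplePn (X ↘ Spec (CommRingCat.of k)) hA
  let m := max n₀ 1
  refine ⟨m, lt_of_lt_of_le Nat.one_pos (le_max_right _ _), fun F hF => ?_⟩
  obtain ⟨r, i, hi, hif, eL⟩ := exists_closedImmersion (X ↘ Spec (CommRingCat.of k)) (CohB1.tensorPow A m)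
    (hn₀ m (le_max_left _ _))
  have hcm : ∀ x : X, IsClosed ({x} : Set ↥X) →
      LocCoh.IsCohenMacaulayLocalRing (X.presheaf.stalk x) ∧ ringKrullDim (X.presheaf.stalk x) = n := by
    intro x hx
    have := Groth.Agent.S1535.result k X x
    exact ⟨Groth.Agent.Ega4A.RegCM.isCohenMacaulayLocalRing_of_isRegularLocalRing _,
      (Groth.Agent.Fga.DimCut.ringKrullDim_stalk_eq k X x hx).trans hn⟩
  obtain ⟨q₀, hq₀⟩ := (Groth.Agent.S10934.result k r n i hn).1 hcm F hF
  refine ⟨q₀, fun q hq J hJ j hj => ?_⟩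
  have h1 := hq₀ q hq j hj
  have h2 : Nonempty (J ≅ (Scheme.Modules.pullback i).obj (tw r k (-(q : ℤ)))) := by
    obtain ⟨e3⟩ := Groth.Agent.CohqB.FinAmple.nonempty_pullback_tensorPow i (isInvertible_tw r k (-1)) q
    obtain ⟨e4⟩ := nonempty_tensorPow_tw r k q
    have h3 : mc ((Scheme.Modules.pullback i).obj (tw r k (-(q : ℤ)))) =
        mc ((Scheme.Modules.pullback i).obj (tw r k (-1))) ^ q := by
      rw [← mc_tensorPow]
      exact (mc_eq ((Scheme.Modules.pullback i).mapIso e4)).symm.trans (mc_eq e3)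
    have h4 : mc ((Scheme.Modules.pullback i).obj (tw r k (-1))) * mc A ^ m = 1 := by
      obtain ⟨eL⟩ := eL
      rw [← mc_tensorPow, mc_eq eL, ← mc_tensor, ← mc_one]
      exact (mc_eq_iff _ _).2 (isInverseOf_pullback i (isInvertible_tw r k 1) (isInvertible_tw r k (-1))
        (isInverseOf_tw r k))
    rw [← mc_eq_iff, h3]
    have h5 : mc ((Scheme.Modules.pullback i).obj (tw r k (-1))) ^ q * (mc A ^ (m * q)) = 1 := by
      rw [pow_mul, ← mul_pow, h4, one_pow]
    calc mc J = (mc ((Scheme.Modules.pullback i).obj (tw r k (-1))) ^ q * (mc A ^ (m * q))) * mc J := by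
          rw [h5, one_mul]
      _ = mc ((Scheme.Modules.pullback i).obj (tw r k (-1))) ^ q := by rw [mul_assoc, hJ, mul_one]
  obtain ⟨e⟩ := h2
  exact K922.VanTop.subsingleton_H_of_iso ((SheafOfModules.toSheaf X.ringCatSheaf).mapIso
    (Ega2.Tens.mapTIso (Iso.refl F) e)) j h1

end K922.VanBot
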