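import Groth.Agent.LogNCD.K922.TermZero
import Groth.Agent.LogNCD.K922.DRes
import Groth.Agent.LogNCD.K913.TwistM
import Groth.Agent.LogNCD.K913.E1Sheaf
import Groth.Agent.PerfA.CohSerre
import Groth.Agent.Fga.PicMon
import Groth.Agent.Sga2.ThickCoh
import Groth.Agent.Fdesc.LocGen

/-!
# Vanishing of the hypercohomology of logarithmic de Rham complexes from twists
-/

set_option autoImplicit false

universe u

open CategoryTheory CategoryTheory.Limits AlgebraicGeometry Opposite TopologicalSpace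
open scoped TensorProduct
open Groth.Agent Groth.Agent.Sga67.Sec Groth.Agent.Sga67.LocBasis

namespace K922.VanTop

open K913.Chart K913.CxLoc K913.Main K913.E1Sheaf Groth.Agent.Fga.PicMon

section ab

variable {X : Scheme.{u}}

theorem isTerminal_top : Nonempty (IsTerminal (⊤ : X.Opens)) := ⟨isTerminalTop⟩

variable [HasDerivedCategory.{u} (Sheaf (Opens.grothendieckTopology X) AddCommGrpCat.{u})]

/-- Vanishing of hypercohomology of `K` from a quasi-isomorphic complex with acyclic terms. -/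
theorem vanish_of_to (K P : CochainComplex (Sheaf (Opens.grothendieckTopology X) AddCommGrpCat.{u}) ℕ)
    (φ : K ⟶ P) [QuasiIso φ] (l : ℤ)
    (h : ∀ p q : ℕ, (p : ℤ) + q = l → Subsingleton (Sheaf.H (P.X p) q)) :
    Subsingleton (E1Deg.HT (CohCx.freeSheaf (Opens.grothendieckTopology X) ⊤) (ext K) l) :=
  (subsingleton_HT_iff (U := (⊤ : X.Opens)) φ l).2 (subsingleton_HT_ext isTerminalTop P l h)

theorem vanish_of_from (K P : CochainComplex (Sheaf (Opens.grothendieckTopology X) AddCommGrpCat.{u}) ℕ)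
    (φ : P ⟶ K) [QuasiIso φ] (l : ℤ)
    (h : ∀ p q : ℕ, (p : ℤ) + q = l → Subsingleton (Sheaf.H (P.X p) q)) :
    Subsingleton (E1Deg.HT (CohCx.freeSheaf (Opens.grothendieckTopology X) ⊤) (ext K) l) :=
  (subsingleton_HT_iff (U := (⊤ : X.Opens)) φ l).1 (subsingleton_HT_ext isTerminalTop P l h)

end ab

section ideal

variable {X : Scheme.{u}} {r : ℕ} {D : Fin r → X.IdealSheafData}

theorem prod_pow_mul (μ : Fin r → ℕ) (N : ℕ) : ∏ j, D j ^ (μ j * N) = (∏ j, D j ^ μ j) ^ N := by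
  simp only [pow_mul, Finset.prod_pow]

theorem mc_idealMod {A : X.Modules} (μ : Fin r → ℕ)
    (hAB : ClSub.IsInverseOf A (ClSub.idealMod (∏ j, D j ^ μ j))) (N : ℕ) :
    mc A ^ N * mc (ClSub.idealMod (∏ j, D j ^ (μ j * N))) = 1 := by
  obtain ⟨e⟩ := Sga2.ThickCoh.idealMod_pow (Dix.IdealModCartier.isEffCartierIdeal_of_isInverseOf hAB) N
  rw [prod_pow_mul, ← mc_eq e, mc_tensorPow, ← mul_pow, ← mc_tensor, (mc_eq_iff _ _).2 hAB, mc_one, one_pow]

theorem exists_iso_inv {A : X.Modules} (μ : Fin r → ℕ)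
    (hAB : ClSub.IsInverseOf A (ClSub.idealMod (∏ j, D j ^ μ j))) (N : ℕ) :
    Nonempty (CohB1.tensorMod (CohB1.tensorPow A N) (ClSub.idealMod (∏ j, D j ^ (μ j * N))) ≅
      Coh.structureModule X) := by
  rw [← mc_eq_iff, mc_tensor, mc_tensorPow, mc_idealMod μ hAB, mc_one]

end ideal

section main

variable {X S : Scheme.{u}} {f : X ⟶ S} {Ω' : X.Modules} {d : OmegaSh.Der f Ω'}
  {r : ℕ} {D : Fin r → X.IdealSheafData} {Λ : LogNCD.LogMod d D} (hch : HasCharts Λ)
  {E : X.Modules} (hE : FlatMod.IsFinLocFree E)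
  {nabla : Coh.toAb E ⟶ Coh.toAb (CohB1.tensorMod E Λ.L)} (hc : ConnSh.IsConn (LogNCD.der Λ) E nabla)
  (K : ConnSh.Cx (LogNCD.der Λ) E nabla)
  [HasDerivedCategory.{u} (Sheaf (Opens.grothendieckTopology X) AddCommGrpCat.{u})]

omit [HasDerivedCategory.{u} (Sheaf (Opens.grothendieckTopology X) AddCommGrpCat.{u})] in
theorem subsingleton_H_of_iso {F G : Sheaf (Opens.grothendieckTopology X) AddCommGrpCat.{u}} (e : F ≅ G) (q : ℕ)
    (h : Subsingleton (Sheaf.H G q)) : Subsingleton (Sheaf.H F q) :=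
  (bijective_Hmap_iso e q).1.subsingleton

include hch hE hc in
/-- Condition (*): hypercohomology vanishes in the degrees in which the terms twisted by `A^N` have no cohomology. -/
theorem vanish_pos (hL : Coh.IsQCoh Λ.L)
    (ρ : ∀ j : Fin r, E ⟶ CohB1.tensorMod E (ClSub.quotMod (D j))) (hρ : ∀ j, LogNCD.IsResidue Λ E nabla j (ρ j))
    (R : ∀ j : Fin r, CohB1.tensorMod E (ClSub.quotMod (D j)) ⟶ CohB1.tensorMod E (ClSub.quotMod (D j)))
    (hR : ∀ j, (SecTwist.unitorR E).inv ≫ KoszTw.tensorMap (𝟙 E) (ClSub.toSubscheme (D j)) ≫ R j = ρ j)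
    (hstar : ∀ (j : Fin r) (m : ℕ), 1 ≤ m → IsIso (R j - m • 𝟙 (CohB1.tensorMod E (ClSub.quotMod (D j)))))
    (μ : Fin r → ℕ) (A : X.Modules) (hA : PicF.IsInvertible A)
    (hAB : ClSub.IsInverseOf A (ClSub.idealMod (∏ j, D j ^ μ j))) (N : ℕ) (l : ℤ)
    (h : ∀ p q : ℕ, (p : ℤ) + q = l → Subsingleton
      (Coh.HH X (CohB1.tensorMod (K.term p) (CohB1.tensorPow A N)) q)) :
    Subsingleton (ConnSh.HdR K l) := by
  obtain ⟨ε⟩ := exists_iso_inv μ hAB N
  obtain ⟨P, φ, e, hφ, -⟩ := K913.TwistM.exists_posCxM hch hE hc K hL (fun j => μ j * N)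
    (∏ j, D j ^ (μ j * N)) (ideal_prod_pow _) (isFinLocFree_of_isInvertible
      (Fdesc.LocGen.isInvertible_tensorPow hA N)) ε (by
      intro j c hcj
      refine ⟨ρ j, R j, hρ j, hR j, ?_⟩
      have h1 := hstar j (μ j * N - c) (by omega)
      have h2 : R j + ((c : ℤ) - ((μ j * N : ℕ) : ℤ)) • 𝟙 (CohB1.tensorMod E (ClSub.quotMod (D j))) =
        R j - (μ j * N - c) • 𝟙 (CohB1.tensorMod E (ClSub.quotMod (D j))) := by
        have h3 : ((c : ℤ) - ((μ j * N : ℕ) : ℤ)) = - ((μ j * N - c : ℕ) : ℤ) := by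
          rw [Nat.cast_sub hcj.le]
          ring
        rw [h3, neg_smul, natCast_zsmul, sub_eq_add_neg]
      rw [h2]
      exact h1)
  exact vanish_of_to K.K P φ l fun p q hpq => subsingleton_H_of_iso (e p) q (h p q hpq)

include hch hE hc in
/-- Condition (!): hypercohomology vanishes in the degrees in which the terms twisted by `A^{-N}` have no
cohomology. -/
theorem vanish_neg (hL : Coh.IsQCoh Λ.L)
    (ρ : ∀ j : Fin r, E ⟶ CohB1.tensorMod E (ClSub.quotMod (D j))) (hρ : ∀ j, LogNCD.IsResidue Λ E nabla j (ρ j))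
    (R : ∀ j : Fin r, CohB1.tensorMod E (ClSub.quotMod (D j)) ⟶ CohB1.tensorMod E (ClSub.quotMod (D j)))
    (hR : ∀ j, (SecTwist.unitorR E).inv ≫ KoszTw.tensorMap (𝟙 E) (ClSub.toSubscheme (D j)) ≫ R j = ρ j)
    (hbang : ∀ (j : Fin r) (m : ℕ), IsIso (R j + m • 𝟙 (CohB1.tensorMod E (ClSub.quotMod (D j)))))
    (ν : Fin r → ℕ) (l : ℤ)
    (h : ∀ p q : ℕ, (p : ℤ) + q = l → Subsingleton
      (Coh.HH X (CohB1.tensorMod (K.term p) (ClSub.idealMod (∏ j, D j ^ ν j))) q)) :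
    Subsingleton (ConnSh.HdR K l) := by
  obtain ⟨P, φ, e, hφ, -⟩ := K913.TwistM.exists_negCxR hch hE hc K hL ν
    (∏ j, D j ^ ν j) (ideal_prod_pow _) (by
      intro j c _
      refine ⟨ρ j, R j, hρ j, hR j, ?_⟩
      rw [natCast_zsmul]
      exact hbang j c)
  exact vanish_of_from K.K P φ l fun p q hpq => subsingleton_H_of_iso (e p) q (h p q hpq)

end main

end K922.VanTop
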